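import Mathlib
import Cfsg.Agent.Lib.Fusion.Dihedral

/-!
# Facts about the dihedral group of order divisible by eight

Used for the fusion in groups with Sylow 2-subgroup a product of two dihedral groups.
Owner: helper78.
-/

set_option autoImplicit false
set_option linter.style.haveILetI false
set_option linter.unusedSectionVars false

namespace Cfsg.Agent.Lib.DihedralPair

open DihedralGroup
open Cfsg.Agent.Lib.Fusion.Dihedral (par double_eq_zero half_add_half half_ne_zero par_half
  par_surjective_two)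

variable {n : ℕ} [NeZero n]

/-- The central involution of a dihedral group. -/
def zed (n : ℕ) : DihedralGroup n := r ((n / 2 : ℕ) : ZMod n)

theorem four_le (hn : 4 ∣ n) : 4 ≤ n := Nat.le_of_dvd (Nat.pos_of_ne_zero (NeZero.ne n)) hn

theorem two_dvd (hn : 4 ∣ n) : 2 ∣ n := dvd_trans (by norm_num) hn

theorem zed_sq (hn : 4 ∣ n) : zed n * zed n = 1 := by
  rw [zed, r_mul_r, half_add_half hn, one_def]

theorem zed_ne_one (hn : 4 ∣ n) : zed n ≠ 1 := fun h => by
  rw [zed, one_def] at h
  exact half_ne_zero (m := n) (by have := four_le hn; omega) (r.inj h)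

theorem neg_half (hn : 4 ∣ n) : -((n / 2 : ℕ) : ZMod n) = ((n / 2 : ℕ) : ZMod n) :=
  neg_eq_of_add_eq_zero_right (half_add_half hn)

theorem zed_comm (hn : 4 ∣ n) (x : DihedralGroup n) : zed n * x = x * zed n := by
  cases x with
  | r i => simp [zed, add_comm]
  | sr i => rw [zed, r_mul_sr, sr_mul_r, sub_eq_add_neg, neg_half hn]

theorem zed_mul_sr (hn : 4 ∣ n) (i : ZMod n) :
    zed n * sr i = sr (i + ((n / 2 : ℕ) : ZMod n)) := by
  rw [zed_comm hn, zed, sr_mul_r]

theorem sr_sq (i : ZMod n) : (sr i : DihedralGroup n) * sr i = 1 := by simp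

theorem sr_ne_one (i : ZMod n) : (sr i : DihedralGroup n) ≠ 1 := by simp [one_def, -r_zero]

theorem sr_ne_zed (i : ZMod n) : (sr i : DihedralGroup n) ≠ zed n := by simp [zed]

/-- The involutions. -/
theorem involution_cases {x : DihedralGroup n} (hx : x * x = 1) (h1 : x ≠ 1) :
    x = zed n ∨ ∃ i, x = sr i := by
  cases x with
  | r i =>
    left
    rw [r_mul_r, one_def] at hx
    rcases double_eq_zero (r.inj hx) with h | h
    · exact absurd (by rw [h, ← one_def]) h1
    · rw [zed, h]
  | sr i => exact Or.inr ⟨i, rfl⟩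

/-- The center. -/
theorem central_cases (hn : 4 ∣ n) {x : DihedralGroup n} (h : ∀ y, x * y = y * x) :
    x = 1 ∨ x = zed n := by
  cases x with
  | r i =>
    have h' := h (sr 0)
    rw [r_mul_sr, sr_mul_r] at h'
    have h2 : i + i = 0 := by
      have := sr.inj h'
      linear_combination -this
    rcases double_eq_zero h2 with h3 | h3
    · exact Or.inl (by rw [h3, ← one_def])
    · exact Or.inr (by rw [zed, h3])
  | sr i =>
    exfalso
    have h' := h (r 1)
    rw [r_mul_sr, sr_mul_r] at h'
    have h2 : ((2 : ℕ) : ZMod n) = 0 := by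
      have := sr.inj h'
      push_cast
      linear_combination this
    rw [ZMod.natCast_eq_zero_iff] at h2
    have := Nat.le_of_dvd (by norm_num) h2
    have := four_le hn
    omega

theorem central_sq (hn : 4 ∣ n) {x : DihedralGroup n} (h : ∀ y, x * y = y * x) : x * x = 1 := by
  rcases central_cases hn h with rfl | rfl
  · exact one_mul 1
  · exact zed_sq hn

/-- The centralizer of a reflection. -/
theorem comm_sr_cases {x : DihedralGroup n} {i : ZMod n} (h : x * sr i = sr i * x) :
    x = 1 ∨ x = zed n ∨ x = sr i ∨ x = zed n * sr i := by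
  cases x with
  | r j =>
    rw [r_mul_sr, sr_mul_r] at h
    have h2 : j + j = 0 := by
      have := sr.inj h
      linear_combination -this
    rcases double_eq_zero h2 with h3 | h3
    · exact Or.inl (by rw [h3, ← one_def])
    · exact Or.inr (Or.inl (by rw [zed, h3]))
  | sr j =>
    rw [sr_mul_sr, sr_mul_sr] at h
    have h2 : (i - j) + (i - j) = 0 := by
      have := r.inj h
      linear_combination this
    rcases double_eq_zero h2 with h3 | h3
    · exact Or.inr (Or.inr (Or.inl (by rw [sub_eq_zero.1 h3])))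
    · refine Or.inr (Or.inr (Or.inr ?_))
      rw [zed, r_mul_sr, ← h3]
      congr 1
      abel

/-- Commutators are rotations. -/
theorem commutator_eq_r (a b : DihedralGroup n) : ∃ i, a * b * a⁻¹ * b⁻¹ = r i := by
  cases a <;> cases b <;> simp
  exact ⟨0, r_zero.symm⟩

theorem commutator_involution {a b : DihedralGroup n}
    (h : (a * b * a⁻¹ * b⁻¹) * (a * b * a⁻¹ * b⁻¹) = 1) :
    a * b * a⁻¹ * b⁻¹ = 1 ∨ a * b * a⁻¹ * b⁻¹ = zed n := by
  obtain ⟨i, hi⟩ := commutator_eq_r a b
  rw [hi] at h ⊢
  rw [r_mul_r, one_def] at h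
  rcases double_eq_zero (r.inj h) with h' | h'
  · exact Or.inl (by rw [h', ← one_def])
  · exact Or.inr (by rw [zed, h'])

/-- A quarter turn. -/
def quarter (n : ℕ) : DihedralGroup n := r ((n / 4 : ℕ) : ZMod n)

theorem quarter_add (hn : 4 ∣ n) :
    ((n / 4 : ℕ) : ZMod n) + ((n / 4 : ℕ) : ZMod n) = ((n / 2 : ℕ) : ZMod n) := by
  rw [← Nat.cast_add]
  congr 1
  omega

theorem quarter_conj_sr (hn : 4 ∣ n) (i : ZMod n) :
    quarter n * sr i * (quarter n)⁻¹ = zed n * sr i := by
  rw [zed_mul_sr hn, quarter, inv_r, r_mul_sr, sr_mul_r, ← neg_half hn, ← quarter_add hn]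
  congr 1
  abel

theorem zed_eq_commutator (hn : 4 ∣ n) :
    quarter n * sr 0 * (quarter n)⁻¹ * (sr 0)⁻¹ = zed n := by
  rw [quarter_conj_sr hn, mul_inv_cancel_right]

theorem quarter_commutator (hn : 4 ∣ n) (w : DihedralGroup n) :
    quarter n * w * (quarter n)⁻¹ * w⁻¹ = 1 ∨ quarter n * w * (quarter n)⁻¹ * w⁻¹ = zed n := by
  cases w with
  | r i =>
    left
    simp [quarter]
  | sr i =>
    right
    rw [quarter_conj_sr hn, mul_inv_cancel_right]

/-- Every element is a product of two elements of order at most two. -/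
theorem exists_two_inv (x : DihedralGroup n) :
    ∃ a b : DihedralGroup n, x = a * b ∧ a * a = 1 ∧ b * b = 1 := by
  cases x with
  | r i => exact ⟨sr 0, sr i, by simp, sr_sq _, sr_sq _⟩
  | sr i => exact ⟨sr i, 1, (mul_one _).symm, sr_sq _, one_mul 1⟩

/-- Elements of order at least three are fixed or inverted by conjugation. -/
theorem conj_pm {a : DihedralGroup n} (ha : a * a ≠ 1) (w : DihedralGroup n) :
    w * a * w⁻¹ = a ∨ w * a * w⁻¹ = a⁻¹ := by
  cases a with
  | r i =>
    cases w with
    | r j => left; simp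
    | sr j => right; simp
  | sr i => exact absurd (sr_sq i) ha

/-- Conjugation preserves the parity of reflections; reflections of equal parity are conjugate. -/
theorem exists_conj_sr (hn : 2 ∣ n) {i j : ZMod n} (h : par hn i = par hn j) :
    ∃ w : DihedralGroup n, w * sr j * w⁻¹ = sr i := by
  obtain ⟨l, hl⟩ := par_surjective_two hn h
  refine ⟨r (-l), ?_⟩
  rw [inv_r, r_mul_sr, sr_mul_r, hl]
  congr 1
  abel

/-- The homomorphisms onto a group of exponent two. -/
noncomputable def chi (hn : 2 ∣ n) {C : Type*} [Group C] (d e : C)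
    (hd : d * d = 1) (he : e * e = 1) (hde : d * e = e * d) : DihedralGroup n →* C :=
  MonoidHom.mk' (fun x => match x with
    | r i => d ^ (par hn i).val
    | sr i => e * d ^ (par hn i).val) (by
    have hz : ∀ a b : ZMod 2, d ^ (a + b).val = d ^ a.val * d ^ b.val := fun a b => by
      rw [ZMod.val_add, ← pow_eq_pow_mod _ (by rw [sq, hd]), pow_add]
    have hs : ∀ a b : ZMod 2, a - b = a + b := by decide
    have hc : ∀ k : ℕ, d ^ k * e = e * d ^ k := fun k => (Commute.pow_left hde k).eq
    intro x y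
    cases x <;> cases y <;>
      simp only [r_mul_r, r_mul_sr, sr_mul_r, sr_mul_sr, map_add, map_sub, hs]
    · exact hz _ _
    · rw [← mul_assoc, hc, mul_assoc, ← hz, add_comm]
    · rw [mul_assoc, hz]
    · rw [mul_assoc, ← mul_assoc (d ^ _) e, hc, mul_assoc, ← mul_assoc e e, he, one_mul, ← hz,
        add_comm])

theorem chi_r (hn : 2 ∣ n) {C : Type*} [Group C] (d e : C)
    (hd : d * d = 1) (he : e * e = 1) (hde : d * e = e * d) (i : ZMod n) :
    chi hn d e hd he hde (r i) = d ^ (par hn i).val := rfl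

theorem chi_sr (hn : 2 ∣ n) {C : Type*} [Group C] (d e : C)
    (hd : d * d = 1) (he : e * e = 1) (hde : d * e = e * d) (i : ZMod n) :
    chi hn d e hd he hde (sr i) = e * d ^ (par hn i).val := rfl

theorem chi_zed (hn : 4 ∣ n) {C : Type*} [Group C] (d e : C)
    (hd : d * d = 1) (he : e * e = 1) (hde : d * e = e * d) :
    chi (two_dvd hn) d e hd he hde (zed n) = 1 := by
  rw [zed, chi_r, par_half hn, ZMod.val_zero, pow_zero]

/-- Rotations of odd index are not killed by the half order, those of even index are. -/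
theorem pow_half_r (hn : 2 ∣ n) (i : ZMod n) :
    (r i : DihedralGroup n) ^ (n / 2) = 1 ↔ par hn i = 0 := by
  have h : (r i : DihedralGroup n) ^ (n / 2) = r (((n / 2 : ℕ) : ZMod n) * i) := by
    induction n / 2 with
    | zero => simp
    | succ k ih => rw [pow_succ, ih, r_mul_r, Nat.cast_succ, add_mul, one_mul]
  rw [h, one_def]
  constructor
  · intro h'
    have h1 := r.inj h'
    rw [← ZMod.natCast_zmod_val i, ← Nat.cast_mul, ZMod.natCast_eq_zero_iff] at h1
    rw [← ZMod.natCast_zmod_val i, map_natCast, ZMod.natCast_eq_zero_iff]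
    obtain ⟨c, hc⟩ := hn
    subst hc
    rw [Nat.mul_div_cancel_left c (by norm_num : 0 < 2), mul_comm c] at h1
    refine (Nat.mul_dvd_mul_iff_right (Nat.pos_of_ne_zero fun h0 => NeZero.ne (2 * c) ?_)).1 h1
    rw [h0, mul_zero]
  · intro h'
    rw [← ZMod.natCast_zmod_val i, map_natCast, ZMod.natCast_eq_zero_iff] at h'
    obtain ⟨c, hc⟩ := h'
    rw [← ZMod.natCast_zmod_val i, ← Nat.cast_mul, hc, ← mul_assoc, Nat.div_mul_cancel hn,
      Nat.cast_mul, ZMod.natCast_self, zero_mul]

end Cfsg.Agent.Lib.DihedralPair
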