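import Mathlib
import Cfsg.Prelude.Def_TwoFusion

/-!
# A Sylow 2-subgroup with two commuting factors whose involution classes are separated

If the involutions of the factors `A` and `B` and the mixed involutions are pairwise non-conjugate,
the factors are strongly closed, under mild hypotheses on the factors.
Owner: helper78.
-/

set_option autoImplicit false
set_option linter.style.haveILetI false
set_option linter.unusedSectionVars false

open Subgroup Cfsg

namespace Cfsg.Agent.Lib.DihedralPair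

universe u v w

variable {G : Type u} [Group G] [Finite G]

/-- Coordinates of a Sylow subgroup as a direct product. -/
structure Pr (S : Sylow 2 G) (A : Type v) (B : Type w) [Group A] [Group B] where
  /-- the coordinate map -/
  f : A × B →* G
  inj : Function.Injective f
  range_eq : f.range = (S : Subgroup G)

namespace Pr

variable {S : Sylow 2 G} {A : Type v} {B : Type w} [Group A] [Group B] (D : Pr S A B)

theorem mem (p : A × B) : D.f p ∈ (S : Subgroup G) := D.range_eq ▸ ⟨p, rfl⟩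

theorem exists_eq {x : G} (hx : x ∈ (S : Subgroup G)) : ∃ p, D.f p = x := by
  rwa [← D.range_eq] at hx

/-- Exchanging the factors. -/
def swap : Pr S B A where
  f := D.f.comp (MulEquiv.prodComm (M := B) (N := A)).toMonoidHom
  inj := D.inj.comp (MulEquiv.prodComm (M := B) (N := A)).injective
  range_eq := by
    rw [MonoidHom.range_comp, MonoidHom.range_eq_top.2 (MulEquiv.surjective _),
      ← MonoidHom.range_eq_map, D.range_eq]

theorem swap_f (p : B × A) : D.swap.f p = D.f (p.2, p.1) := rfl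

/-- The image of the first factor. -/
def left : Subgroup G := (D.f.comp (MonoidHom.inl A B)).range

theorem mem_left {x : G} : x ∈ D.left ↔ ∃ a, D.f (a, 1) = x := Iff.rfl

theorem eq_one {p : A × B} (h : D.f p = 1) : p = 1 := D.inj (h.trans (map_one D.f).symm)

theorem central_mem_centralizer {p : A × B} (hp : ∀ q, p * q = q * p) :
    D.f p ∈ centralizer ((S : Subgroup G) : Set G) :=
  mem_centralizer_iff.2 fun s hs => by
    obtain ⟨q, rfl⟩ := D.exists_eq hs
    rw [← map_mul, ← map_mul, hp]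

/-- Burnside: conjugate central elements of `S` are conjugate in the normalizer. -/
theorem exists_normalizer_conj {p q : A × B} (hp : ∀ x, p * x = x * p) (hq : ∀ x, q * x = x * q)
    {g : G} (h : g * D.f p * g⁻¹ = D.f q) :
    ∃ n ∈ normalizer ((S : Subgroup G) : Set G), n * D.f p * n⁻¹ = D.f q := by
  haveI : Fact (Nat.Prime 2) := ⟨Nat.prime_two⟩
  obtain ⟨n, hn, e⟩ := S.conj_eq_normalizer_conj_of_mem_centralizer (D.f p) g⁻¹
    (D.central_mem_centralizer hp) (by rw [inv_inv, h]; exact D.central_mem_centralizer hq)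
  exact ⟨n⁻¹, inv_mem hn, by rw [inv_inv] at e ⊢; rw [← e, h]⟩

end Pr

/-- An odd power of every element normalizing a Sylow 2-subgroup lies in it. -/
theorem exists_odd_pow_mem (S : Sylow 2 G) :
    ∃ N : ℕ, Odd N ∧ ∀ n ∈ normalizer ((S : Subgroup G) : Set G), n ^ N ∈ (S : Subgroup G) := by
  haveI : Fact (Nat.Prime 2) := ⟨Nat.prime_two⟩
  set H := normalizer ((S : Subgroup G) : Set G)
  refine ⟨((S : Subgroup G).subgroupOf H).index, ?_, fun n hn => ?_⟩
  · exact Nat.odd_iff.2 (Nat.two_dvd_ne_zero.1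
      fun h => S.not_dvd_index (h.trans (relIndex_dvd_index_of_le le_normalizer)))
  · haveI : ((S : Subgroup G).subgroupOf H).Normal := normal_in_normalizer
    exact mem_subgroupOf.1 (pow_index_mem ((S : Subgroup G).subgroupOf H) (⟨n, hn⟩ : H))

/-- An element normalizing `S` cannot translate a central element by a fixed involution. -/
theorem eq_one_of_translate {S : Sylow 2 G} {n z w : G}
    (hn : n ∈ normalizer ((S : Subgroup G) : Set G))
    (hz : z ∈ centralizer ((S : Subgroup G) : Set G)) (hw : w * w = 1)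
    (hzw : n * z * n⁻¹ = z * w) (hfix : n * w * n⁻¹ = w) : w = 1 := by
  obtain ⟨N, hN, hpow⟩ := exists_odd_pow_mem S
  have key : ∀ k : ℕ, n ^ k * z * (n ^ k)⁻¹ = z * w ^ k := by
    intro k
    induction k with
    | zero => simp
    | succ k ih =>
      rw [pow_succ' n k, show n * n ^ k * z * (n * n ^ k)⁻¹ = n * (n ^ k * z * (n ^ k)⁻¹) * n⁻¹ by
        group, ih, show n * (z * w ^ k) * n⁻¹ = n * z * n⁻¹ * (n * w ^ k * n⁻¹) by group, hzw,
        ← conj_pow, hfix, mul_assoc, ← pow_succ']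
  have h := key N
  rw [mem_centralizer_iff.1 hz _ (hpow n hn), mul_inv_cancel_right] at h
  obtain ⟨c, rfl⟩ := hN
  rw [pow_succ, pow_mul, sq, hw, one_pow, one_mul] at h
  exact mul_eq_left.1 h.symm

namespace Pr

variable {S : Sylow 2 G} {A : Type v} {B : Type w} [Group A] [Group B] (D : Pr S A B)

/-- The three kinds of involutions of `S` are pairwise non-conjugate. -/
structure Sep : Prop where
  left_right : ∀ (a : A) (b : B), a * a = 1 → a ≠ 1 → b * b = 1 → b ≠ 1 →
    ∀ g : G, g * D.f (a, 1) * g⁻¹ ≠ D.f (1, b)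
  left_mixed : ∀ (a a' : A) (b : B), a * a = 1 → a ≠ 1 → a' * a' = 1 → a' ≠ 1 → b * b = 1 → b ≠ 1 →
    ∀ g : G, g * D.f (a, 1) * g⁻¹ ≠ D.f (a', b)
  right_mixed : ∀ (b b' : B) (a : A), b * b = 1 → b ≠ 1 → b' * b' = 1 → b' ≠ 1 → a * a = 1 → a ≠ 1 →
    ∀ g : G, g * D.f (1, b) * g⁻¹ ≠ D.f (a, b')

theorem Sep.swap {D : Pr S A B} (h : D.Sep) : D.swap.Sep where
  left_right a b ha ha1 hb hb1 g := by
    rw [swap_f, swap_f]
    intro e
    refine h.left_right b a hb hb1 ha ha1 g⁻¹ ?_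
    dsimp only at e ⊢
    rw [← e]
    group
  left_mixed a a' b ha ha1 ha' ha1' hb hb1 g := by
    rw [swap_f, swap_f]
    exact h.right_mixed a a' b ha ha1 ha' ha1' hb hb1 g
  right_mixed b b' a hb hb1 hb' hb1' ha ha1 g := by
    rw [swap_f, swap_f]
    exact h.left_mixed b b' a hb hb1 hb' hb1' ha ha1 g

/-- The noncentral involutions of the second factor are conjugate to central ones, by elements
carrying the first factor into `S`. -/
def ReflHyp : Prop :=
  ∀ b : B, b * b = 1 → (∃ w, b * w ≠ w * b) → ∃ z : B, z * z = 1 ∧ z ≠ 1 ∧ (∀ w, z * w = w * z) ∧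
    ∃ g : G, g * D.f (1, b) * g⁻¹ = D.f (1, z) ∧ ∀ a, g * D.f (a, 1) * g⁻¹ ∈ (S : Subgroup G)

variable {D}

/-- Involutions of the first factor are only conjugate to such. -/
theorem Sep.inv_left (h : D.Sep) {a : A} (ha : a * a = 1) {g : G} {p : A × B}
    (hp : g * D.f (a, 1) * g⁻¹ = D.f p) : p.2 = 1 := by
  obtain ⟨a', b'⟩ := p
  show b' = 1
  rcases eq_or_ne a 1 with rfl | ha1
  · rw [show ((1 : A), (1 : B)) = 1 from rfl, map_one, mul_one, mul_inv_cancel] at hp
    exact congrArg Prod.snd (D.eq_one hp.symm)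
  have h2 : (a', b') * (a', b') = 1 := D.eq_one (by
    rw [map_mul, ← hp, show g * D.f (a, 1) * g⁻¹ * (g * D.f (a, 1) * g⁻¹) =
      g * (D.f (a, 1) * D.f (a, 1)) * g⁻¹ by group, ← map_mul, Prod.mk_mul_mk, ha, mul_one,
      show ((1 : A), (1 : B)) = 1 from rfl, map_one, mul_one, mul_inv_cancel])
  by_contra hb1
  have ha' : a' * a' = 1 := congrArg Prod.fst h2
  have hb : b' * b' = 1 := congrArg Prod.snd h2
  rcases eq_or_ne a' 1 with rfl | ha1'
  · exact h.left_right a b' ha ha1 hb hb1 g hp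
  · exact h.left_mixed a a' b' ha ha1 ha' ha1' hb hb1 g hp

/-- A conjugation carrying the first factor into `S` carries it to the first factor. -/
theorem Sep.map_left (h : D.Sep)
    (h2 : ∀ a : A, ∃ x y : A, a = x * y ∧ x * x = 1 ∧ y * y = 1) {g : G}
    (hg : ∀ a, g * D.f (a, 1) * g⁻¹ ∈ (S : Subgroup G)) (a : A) :
    ∃ a', g * D.f (a, 1) * g⁻¹ = D.f (a', 1) := by
  obtain ⟨x, y, rfl, hx, hy⟩ := h2 a
  obtain ⟨⟨p1, p2⟩, hp⟩ := D.exists_eq (hg x)
  obtain ⟨⟨q1, q2⟩, hq⟩ := D.exists_eq (hg y)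
  have e1 : p2 = 1 := h.inv_left hx hp.symm
  have e2 : q2 = 1 := h.inv_left hy hq.symm
  refine ⟨p1 * q1, ?_⟩
  rw [show ((x * y, 1) : A × B) = (x, 1) * (y, 1) by rw [Prod.mk_mul_mk, mul_one], map_mul,
    show g * (D.f (x, 1) * D.f (y, 1)) * g⁻¹ = g * D.f (x, 1) * g⁻¹ * (g * D.f (y, 1) * g⁻¹) by
      group, ← hp, ← hq, e1, e2, ← map_mul, Prod.mk_mul_mk, mul_one]

/-- If `x` in the first factor is conjugate to `y` and both generate normal subgroups of `S`,
then `y` is in the first factor. -/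
theorem Sep.of_normal (h : D.Sep)
    (h2 : ∀ a : A, ∃ x y : A, a = x * y ∧ x * x = 1 ∧ y * y = 1) {a : A} {g : G} {p : A × B}
    (hp : g * D.f (a, 1) * g⁻¹ = D.f p)
    (hna : ∀ q, q * ((a, 1) : A × B) * q⁻¹ ∈ zpowers ((a, 1) : A × B))
    (hnp : ∀ q, q * p * q⁻¹ ∈ zpowers p) : p.2 = 1 := by
  classical
  haveI : Fact (Nat.Prime 2) := ⟨Nat.prime_two⟩
  set X := zpowers (D.f p)
  set H := normalizer (X : Set G)
  have hnorm : ∀ r : A × B, (∀ q, q * r * q⁻¹ ∈ zpowers r) →
      (S : Subgroup G) ≤ normalizer ((zpowers (D.f r) : Subgroup G) : Set G) := by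
    intro r hr s hs
    obtain ⟨q, rfl⟩ := D.exists_eq hs
    have hfwd : ∀ q : A × B, ∀ x ∈ zpowers (D.f r), D.f q * x * (D.f q)⁻¹ ∈ zpowers (D.f r) := by
      intro q x hx
      obtain ⟨i, rfl⟩ := mem_zpowers_iff.1 hx
      rw [← conj_zpow]
      refine zpow_mem ?_ i
      obtain ⟨j, hj⟩ := mem_zpowers_iff.1 (hr q)
      exact ⟨j, by show D.f r ^ j = _; rw [← map_inv, ← map_mul, ← map_mul, ← map_zpow, hj]⟩
    refine mem_normalizer_iff.2 fun x => ⟨hfwd q x, fun hx => ?_⟩
    have := hfwd q⁻¹ _ hx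
    rwa [map_inv, inv_inv, show (D.f q)⁻¹ * (D.f q * x * (D.f q)⁻¹) * D.f q = x by group] at this
  have hS : (S : Subgroup G) ≤ H := hnorm p hnp
  have hX : X = (zpowers (D.f (a, 1))).map (MulAut.conj g).toMonoidHom := by
    rw [MonoidHom.map_zpowers]
    show zpowers (D.f p) = zpowers (g * D.f (a, 1) * g⁻¹)
    rw [hp]
  set T : Sylow 2 G := g • S
  have hT : (T : Subgroup G) ≤ H := by
    intro x hx
    obtain ⟨s, hs, rfl⟩ := hx
    have hsn := hnorm (a, 1) hna hs
    refine mem_normalizer_iff.2 fun y => ?_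
    rw [hX, MonoidHom.map_zpowers]
    have e : ∀ y, y ∈ zpowers ((MulAut.conj g).toMonoidHom (D.f (a, 1))) ↔
        g⁻¹ * y * g ∈ zpowers (D.f (a, 1)) := fun y => by
      rw [← MonoidHom.map_zpowers, Subgroup.mem_map_equiv, MulAut.conj_symm_apply]
    rw [e, e, mem_normalizer_iff.1 hsn]
    simp [MulAut.conj, mul_assoc]
  obtain ⟨k, hk⟩ := MulAction.exists_smul_eq H (T.subtype hT) (S.subtype hS)
  have hkg : ∀ s ∈ (S : Subgroup G), (k : G) * g * s * ((k : G) * g)⁻¹ ∈ (S : Subgroup G) := by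
    intro s hs
    have h1 : g * s * g⁻¹ ∈ (T : Subgroup G) :=
      smul_mem_pointwise_smul _ (MulAut.conj g) _ hs
    have h2 : (⟨g * s * g⁻¹, hT h1⟩ : H) ∈ (T.subtype hT : Subgroup H) := h1
    have h3 : k * ⟨g * s * g⁻¹, hT h1⟩ * k⁻¹ ∈
        ((k • T.subtype hT : Sylow 2 H) : Subgroup H) :=
      smul_mem_pointwise_smul _ (MulAut.conj k) _ h2
    rw [hk] at h3
    simpa [mem_subgroupOf, mul_assoc] using h3
  obtain ⟨a', ha'⟩ := h.map_left h2 (fun x => hkg _ (D.mem _)) a
  have h3 : (k : G) * D.f p * (k : G)⁻¹ ∈ X := (mem_normalizer_iff.1 k.2 _).1 (mem_zpowers _)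
  have h4 : (k : G)⁻¹ * D.f p * ((k : G)⁻¹)⁻¹ ∈ X :=
    (mem_normalizer_iff.1 (k⁻¹).2 _).1 (mem_zpowers _)
  obtain ⟨j, hj⟩ := mem_zpowers_iff.1 h4
  have h5 : D.f (a', 1) = (k : G) * D.f p * (k : G)⁻¹ := by
    rw [← ha', ← hp]; group
  have h6 : D.f p = (k : G) * (D.f p) ^ j * (k : G)⁻¹ := by
    rw [hj]; group
  rw [← conj_zpow, ← h5, ← map_zpow] at h6
  rw [D.inj h6]
  show ((a', (1 : B)) ^ j).2 = 1
  rw [Prod.pow_snd, one_zpow]

/-- The first factor is strongly closed. -/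
theorem isStronglyClosed_left [Finite A] [Finite B] (h : D.Sep) (hR : D.ReflHyp)
    (h2 : ∀ a : A, ∃ x y : A, a = x * y ∧ x * x = 1 ∧ y * y = 1)
    (hpm : ∀ a : A, a * a ≠ 1 → ∀ w, w * a * w⁻¹ = a ∨ w * a * w⁻¹ = a⁻¹) :
    IsStronglyClosed D.left (S : Subgroup G) := by
  refine ⟨fun x hx => ?_, ?_⟩
  · obtain ⟨a, rfl⟩ := hx
    exact D.mem _
  suffices key : ∀ k (a : A), orderOf a = k → ∀ (g : G) (p : A × B),
      g * D.f (a, 1) * g⁻¹ = D.f p → p.2 = 1 by
    rintro _ ⟨a, rfl⟩ g hg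
    obtain ⟨⟨a', b'⟩, hp⟩ := D.exists_eq hg
    have : b' = 1 := key _ a rfl g (a', b') hp.symm
    exact ⟨a', by rw [← hp, this]; rfl⟩
  intro k
  induction k using Nat.strong_induction_on with
  | _ k ih =>
    intro a hk g p hp
    by_cases ha : a * a = 1
    · exact h.inv_left ha hp
    have hpow : g * D.f (a ^ 2, 1) * g⁻¹ = D.f (p ^ 2) := by
      rw [map_pow, ← hp, conj_pow, ← map_pow]
      simp [Prod.pow_def]
    have hord : orderOf (a ^ 2) < k := by
      have heven : 2 ∣ orderOf a := by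
        have h2S : IsPGroup 2 ↥(S : Subgroup G) := S.2
        obtain ⟨j, hj⟩ := h2S ⟨D.f (a, 1), D.mem _⟩
        have hj' : ((a, 1) : A × B) ^ 2 ^ j = 1 := D.eq_one (by
          rw [map_pow]; simpa using congrArg Subtype.val hj)
        have hd : orderOf a ∣ 2 ^ j := orderOf_dvd_of_pow_eq_one (by
          simpa using congrArg Prod.fst hj')
        obtain ⟨i, -, hi⟩ := (Nat.dvd_prime_pow Nat.prime_two).1 hd
        rcases i with _ | i
        · refine absurd ?_ ha
          rw [orderOf_eq_one_iff.1 (hi.trans (pow_zero 2)), mul_one]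
        · exact hi ▸ dvd_pow_self 2 (by omega)
      rw [orderOf_pow_of_dvd two_ne_zero heven, hk]
      have := orderOf_pos a
      omega
    have hb : p.2 * p.2 = 1 := by
      rw [← sq]
      exact ih _ hord _ rfl g _ hpow
    have ha' : p.1 * p.1 ≠ 1 := fun h0 => by
      have : D.f (p ^ 2) = 1 := by
        rw [show p ^ 2 = 1 from Prod.ext (by simp [sq, h0]) (by simp [sq, hb]), map_one]
      rw [this, conj_eq_one_iff] at hpow
      exact ha (by simpa [sq] using congrArg Prod.fst (D.eq_one hpow))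
    have hb' : p.2⁻¹ = p.2 := inv_eq_of_mul_eq_one_right hb
    have hnorm : ∀ r : A × B, r.1 * r.1 ≠ 1 → r.2 * r.2 = 1 → (∀ w, r.2 * w = w * r.2) →
        ∀ q : A × B, q * r * q⁻¹ ∈ zpowers r := by
      intro r hr1 hr2 hrc q
      have e2 : q.2 * r.2 * q.2⁻¹ = r.2 := by rw [← hrc, mul_inv_cancel_right]
      rcases hpm r.1 hr1 q.1 with e | e
      · exact ⟨1, Prod.ext (by simp [e]) (by simp [e2])⟩
      · exact ⟨-1, Prod.ext (by simp [e]) (by simp [e2, inv_eq_of_mul_eq_one_right hr2])⟩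
    have hna := hnorm (a, 1) ha (one_mul 1) fun w => by simp
    by_cases hc : ∀ w, p.2 * w = w * p.2
    · exact h.of_normal h2 hp hna (hnorm p ha' hb hc)
    exfalso
    push Not at hc
    obtain ⟨z, hz, hz1, hzc, g', hg', hgS⟩ := hR p.2 hb hc
    obtain ⟨a'', ha''⟩ := h.map_left h2 hgS p.1
    have e : g' * g * D.f (a, 1) * (g' * g)⁻¹ = D.f (a'', z) := by
      rw [show ((a'', z) : A × B) = (a'', 1) * (1, z) by simp, map_mul, ← ha'', ← hg',
        show g' * g * D.f (a, 1) * (g' * g)⁻¹ = g' * (g * D.f (a, 1) * g⁻¹) * g'⁻¹ by group, hp,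
        show g' * D.f (p.1, 1) * g'⁻¹ * (g' * D.f (1, p.2) * g'⁻¹) =
          g' * (D.f (p.1, 1) * D.f (1, p.2)) * g'⁻¹ by group, ← map_mul]
      simp
    have ha2 : a'' * a'' ≠ 1 := fun h0 => by
      apply ha'
      have h1 : g' * (D.f (p.1, 1) * D.f (p.1, 1)) * g'⁻¹ = 1 := by
        rw [show g' * (D.f (p.1, 1) * D.f (p.1, 1)) * g'⁻¹ =
          g' * D.f (p.1, 1) * g'⁻¹ * (g' * D.f (p.1, 1) * g'⁻¹) by group, ha'', ← map_mul,
          Prod.mk_mul_mk, h0, mul_one, show ((1 : A), (1 : B)) = 1 from rfl, map_one]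
      rw [conj_eq_one_iff, ← map_mul] at h1
      simpa using congrArg Prod.fst (D.eq_one h1)
    exact hz1 (h.of_normal h2 e hna (hnorm (a'', z) ha2 hz hzc))

end Pr

end Cfsg.Agent.Lib.DihedralPair
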