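import Mathlib
import Cfsg.Agent.Lib.Fusion.Thompson

/-!
# Thompson's transfer lemma, extremal form

An involution is conjugate into a maximal subgroup of a Sylow 2-subgroup in such a way that a
given 2-subgroup centralizing it lands in the Sylow subgroup.
Owner: helper78.
-/

set_option autoImplicit false
set_option linter.style.haveILetI false

open Subgroup

namespace Cfsg.Agent.Lib.DihedralPair

universe u

variable {G : Type u} [Group G] [Finite G]

theorem exists_conj_extremal (S : Sylow 2 G) (M : Subgroup G) (hMS : M ≤ S)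
    (hM : M.relIndex S = 2) (hG : ∀ N : Subgroup G, N.index ≠ 2) {t : G} (ht : orderOf t = 2)
    {P : Subgroup G} (hP : IsPGroup 2 ↥P) (hPt : ∀ x ∈ P, x * t = t * x) :
    ∃ g : G, g * t * g⁻¹ ∈ M ∧ ∀ x ∈ P, g * x * g⁻¹ ∈ (S : Subgroup G) := by
  classical
  haveI : Fact (Nat.Prime 2) := ⟨Nat.prime_two⟩
  haveI := Fintype.ofFinite (G ⧸ M)
  -- the permutation given by `t` is even
  set σ := MulAction.toPermHom G (G ⧸ M) t with hσ
  have hsgn : Equiv.Perm.sign σ = 1 := by
    by_contra hne
    refine hG (Equiv.Perm.sign.comp (MulAction.toPermHom G (G ⧸ M))).ker ?_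
    rw [Subgroup.index_ker, MonoidHom.range_eq_top.2 ?_, Subgroup.card_top,
      Nat.card_eq_fintype_card, Fintype.card_units_int]
    intro x
    rcases Int.units_eq_one_or x with rfl | rfl
    · exact ⟨1, map_one _⟩
    · exact ⟨t, (Int.units_eq_one_or _).resolve_left hne⟩
  have hpow : σ ^ 2 = 1 := by rw [hσ, ← map_pow, ← ht, pow_orderOf_eq_one, map_one]
  rw [Equiv.Perm.sign_of_cycleType_eq_replicate (n := 2) (by norm_num)
    (Equiv.Perm.cycleType_of_pow_prime_eq_one hpow), if_neg (by decide)] at hsgn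
  -- fixed points come in pairs
  let pr : G ⧸ (S : Subgroup G) → Prop := fun x => ∀ g : G, (g : G ⧸ (S : Subgroup G)) = x →
    g⁻¹ * t * g ∈ M
  have hMn : ∀ s ∈ (S : Subgroup G), ∀ a ∈ M, s * a * s⁻¹ ∈ M := by
    intro s hs a ha
    have hn : (M.subgroupOf (S : Subgroup G)).Normal := normal_of_index_eq_two hM
    exact hn.conj_mem ⟨a, hMS ha⟩ ha ⟨s, hs⟩
  have hfix : ∀ a : G ⧸ M, a ∈ Function.fixedPoints σ ↔ pr (quotientMapOfLE hMS a) := by
    intro a
    induction a using QuotientGroup.induction_on with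
    | H k =>
      rw [quotientMapOfLE_apply_mk]
      have e : (k : G ⧸ M) ∈ Function.fixedPoints σ ↔ k⁻¹ * t * k ∈ M := by
        rw [Function.mem_fixedPoints, Function.IsFixedPt, eq_comm]
        show (k : G ⧸ M) = t • (k : G ⧸ M) ↔ _
        rw [MulAction.Quotient.smul_mk, smul_eq_mul, QuotientGroup.eq, mul_assoc]
      rw [e]
      refine ⟨fun h g hg => ?_, fun h => h k rfl⟩
      rw [QuotientGroup.eq] at hg
      have := hMn _ hg _ h
      convert this using 1
      group
  let e := quotientEquivProdOfLE hMS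
  have hefst : ∀ a, (e a).1 = quotientMapOfLE hMS a := fun a => by
    induction a using QuotientGroup.induction_on with
    | H k => rfl
  have hcard : Fintype.card (Function.fixedPoints σ) = 2 * Nat.card {x // pr x} := by
    rw [← Nat.card_eq_fintype_card, Nat.card_congr ((e.subtypeEquiv (p := fun a => a ∈
      Function.fixedPoints σ) (q := fun y => pr y.1) fun a => by rw [hfix, hefst]).trans
      (Equiv.prodSubtypeFstEquivSubtypeProd)), Nat.card_prod, mul_comm]
    congr 1
  have hle : Fintype.card (Function.fixedPoints σ) ≤ Fintype.card (G ⧸ M) :=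
    Fintype.card_subtype_le _
  have hodd : ¬ 2 ∣ Nat.card {x // pr x} := by
    intro ⟨c, hc⟩
    have h4 : M.index = 2 * (S : Subgroup G).index := by
      rw [← relIndex_mul_index hMS, hM]
    have hS := S.not_dvd_index
    rw [← Nat.card_eq_fintype_card (α := G ⧸ M), ← Subgroup.index_eq_card, hcard, h4, hc] at hsgn hle
    rw [show (2 * (S : Subgroup G).index - 2 * (2 * c)) / 2 = (S : Subgroup G).index - 2 * c by omega,
      neg_one_pow_eq_one_iff_even (by decide), Nat.even_sub (by omega)] at hsgn
    exact hS (even_iff_two_dvd.1 (hsgn.2 (even_two_mul c)))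
  -- a fixed point of `P`
  let act : MulAction ↥P {x // pr x} :=
    { smul := fun p x => ⟨(p : G) • x.1, fun g hg => by
        have h1 := x.2 ((p : G)⁻¹ * g) (by
          have h2 := congrArg ((p : G)⁻¹ • ·) hg
          simp only [inv_smul_smul] at h2
          exact h2)
        have hp := hPt _ p.2
        rw [show ((p : G)⁻¹ * g)⁻¹ * t * ((p : G)⁻¹ * g) = g⁻¹ * ((p : G) * t * (p : G)⁻¹) * g by
          group, hp, mul_inv_cancel_right] at h1
        exact h1⟩
      one_smul := fun x => Subtype.ext (one_smul G x.1)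
      mul_smul := fun a b x => Subtype.ext (mul_smul (a : G) (b : G) x.1) }
  obtain ⟨x, hx⟩ := hP.nonempty_fixed_point_of_prime_not_dvd_card {x // pr x} hodd
  obtain ⟨k, hk⟩ := QuotientGroup.mk_surjective x.1
  refine ⟨k⁻¹, by rw [inv_inv]; exact x.2 k hk, fun p hp => ?_⟩
  have h1 : (⟨p, hp⟩ : ↥P) • x = x := hx ⟨p, hp⟩
  have h2 : p • x.1 = x.1 := congrArg Subtype.val h1
  rw [← hk, MulAction.Quotient.smul_mk, smul_eq_mul, eq_comm, QuotientGroup.eq] at h2
  rw [inv_inv, mul_assoc]
  exact h2

end Cfsg.Agent.Lib.DihedralPair
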