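import Mathlib
import Cfsg.Agent.Lib.DihedralPair.Pair
import Cfsg.Agent.Lib.DihedralPair.Transfer

/-!
# Changing the factorization by central homomorphisms, and some tools

Owner: helper78.
-/

set_option autoImplicit false
set_option linter.style.haveILetI false
set_option linter.unusedSectionVars false

open Subgroup

namespace Cfsg.Agent.Lib.DihedralPair

universe u v w

variable {G : Type u} [Group G] [Finite G] {S : Sylow 2 G} {A : Type v} {B : Type w}
  [Group A] [Group B] [Finite A] [Finite B] (D : Pr S A B)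

namespace Pr

/-- The modified factorization. -/
def twist (φ : A →* B) (ψ : B →* A) (hφ : ∀ a b, φ a * b = b * φ a) (hψ : ∀ b a, ψ b * a = a * ψ b)
    (hφψ : ∀ b, φ (ψ b) = 1) : Pr S A B where
  f := D.f.comp
    { toFun := fun p => (p.1 * ψ p.2, φ p.1 * p.2)
      map_one' := by simp
      map_mul' := fun p q => by
        simp only [Prod.fst_mul, Prod.snd_mul, map_mul, Prod.mk_mul_mk]
        refine Prod.ext ?_ ?_
        · show p.1 * q.1 * (ψ p.2 * ψ q.2) = p.1 * ψ p.2 * (q.1 * ψ q.2)
          rw [mul_assoc, ← mul_assoc q.1, ← hψ p.2 q.1]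
          simp only [mul_assoc]
        · show φ p.1 * φ q.1 * (p.2 * q.2) = φ p.1 * p.2 * (φ q.1 * q.2)
          rw [mul_assoc, ← mul_assoc (φ q.1), hφ q.1 p.2]
          simp only [mul_assoc] }
  inj := D.inj.comp <| (injective_iff_map_eq_one _).2 fun p hp => by
    have h1 : p.1 * ψ p.2 = 1 := congrArg Prod.fst hp
    have h2 : φ p.1 * p.2 = 1 := congrArg Prod.snd hp
    rw [mul_eq_one_iff_eq_inv] at h1
    rw [h1, map_inv, hφψ, inv_one, one_mul] at h2
    rw [h2, map_one, inv_one] at h1
    exact Prod.ext h1 h2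
  range_eq := by
    classical
    haveI := Fintype.ofFinite (A × B)
    set τ : A × B →* A × B :=
      { toFun := fun p => (p.1 * ψ p.2, φ p.1 * p.2)
        map_one' := _
        map_mul' := _ }
    have hinj : Function.Injective τ := (injective_iff_map_eq_one _).2 fun p hp => by
      have h1 : p.1 * ψ p.2 = 1 := congrArg Prod.fst hp
      have h2 : φ p.1 * p.2 = 1 := congrArg Prod.snd hp
      rw [mul_eq_one_iff_eq_inv] at h1
      rw [h1, map_inv, hφψ, inv_one, one_mul] at h2
      rw [h2, map_one, inv_one] at h1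
      exact Prod.ext h1 h2
    rw [MonoidHom.range_comp, MonoidHom.range_eq_top.2 (Finite.injective_iff_surjective.1 hinj),
      ← MonoidHom.range_eq_map, D.range_eq]

theorem twist_f {φ : A →* B} {ψ : B →* A} {hφ : ∀ a b, φ a * b = b * φ a}
    {hψ : ∀ b a, ψ b * a = a * ψ b} {hφψ : ∀ b, φ (ψ b) = 1} (p : A × B) :
    (D.twist φ ψ hφ hψ hφψ).f p = D.f (p.1 * ψ p.2, φ p.1 * p.2) := rfl

/-- The homomorphism induced on the coordinates by an element normalizing `S`. -/
theorem exists_action {n : G} (hn : n ∈ normalizer ((S : Subgroup G) : Set G)) :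
    ∃ θ : A × B →* A × B, Function.Injective θ ∧ ∀ p, D.f (θ p) = n * D.f p * n⁻¹ := by
  classical
  choose θ hθ using fun p => D.exists_eq ((mem_normalizer_iff.1 hn _).1 (D.mem p))
  refine ⟨MonoidHom.mk' θ fun p q => D.inj ?_, fun p q e => D.inj ?_, hθ⟩
  · rw [map_mul, hθ, hθ, hθ, map_mul]; group
  · have := congrArg D.f e
    simp only [MonoidHom.mk'_apply, hθ] at this
    exact (MulAut.conj n).injective this

/-- A conjugation mapping all of `S` into `S` normalizes it. -/
theorem mem_normalizer_of_forall {g : G} (h : ∀ p, g * D.f p * g⁻¹ ∈ (S : Subgroup G)) :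
    g ∈ normalizer ((S : Subgroup G) : Set G) := by
  have e : (S : Subgroup G).map (MulAut.conj g).toMonoidHom = (S : Subgroup G) := by
    refine eq_of_le_of_card_ge ?_ (card_map_of_injective (MulAut.conj g).injective).ge
    rintro _ ⟨x, hx, rfl⟩
    obtain ⟨p, rfl⟩ := D.exists_eq hx
    exact h p
  refine mem_normalizer_iff.2 fun x => ?_
  have h1 : g * x * g⁻¹ ∈ (S : Subgroup G).map (MulAut.conj g).toMonoidHom ↔
      x ∈ (S : Subgroup G) := mem_map_iff_mem (MulAut.conj g).injective
  rw [e] at h1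
  exact h1.symm

/-- A homomorphism onto a group of order two gives, by Thompson transfer, conjugations. -/
theorem exists_transfer (hG : ∀ N : Subgroup G, N.index ≠ 2) (χ : A × B →* Multiplicative (ZMod 2))
    (hχ : Function.Surjective χ) {x : A × B} (hx : x * x = 1) (hx1 : x ≠ 1) :
    ∃ (g : G) (u : A × B), χ u = 1 ∧ g * D.f x * g⁻¹ = D.f u ∧
      ∀ p, p * x = x * p → g * D.f p * g⁻¹ ∈ (S : Subgroup G) := by
  haveI : Fact (Nat.Prime 2) := ⟨Nat.prime_two⟩
  set M := χ.ker.map D.f
  have hMS : M ≤ (S : Subgroup G) := by rintro _ ⟨w, -, rfl⟩; exact D.mem w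
  have hMrel : M.relIndex (S : Subgroup G) = 2 := by
    rw [← D.range_eq, MonoidHom.range_eq_map, relIndex_map_map_of_injective _ _ D.inj,
      relIndex_top_right, index_ker, MonoidHom.range_eq_top.2 hχ, card_top,
      Nat.card_eq_fintype_card]
    rfl
  have ht : orderOf (D.f x) = 2 :=
    orderOf_eq_prime (by rw [sq, ← map_mul, hx, map_one]) fun h => hx1 (D.eq_one h)
  have hP : IsPGroup 2 ↥((centralizer ({x} : Set (A × B))).map D.f) := by
    refine IsPGroup.to_le S.2 ?_
    rintro _ ⟨w, -, rfl⟩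
    exact D.mem w
  obtain ⟨g, ⟨u, hu, hgu⟩, hgP⟩ := exists_conj_extremal S M hMS hMrel hG ht hP (by
    rintro _ ⟨w, hw, rfl⟩
    rw [← map_mul, ← map_mul, ← mem_centralizer_iff.1 hw x rfl])
  refine ⟨g, u, hu, hgu.symm, fun p hp => hgP _ ⟨p, mem_centralizer_iff.2 fun y hy => ?_, rfl⟩⟩
  rw [Set.mem_singleton_iff.1 hy, hp]

end Pr

end Cfsg.Agent.Lib.DihedralPair
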