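import Mathlib
import Cfsg.Agent.Lib.DihedralPair.Model
import Cfsg.Agent.Lib.DihedralPair.Twist

/-!
# Two dihedral factors of order at least eight

Owner: helper78.
-/

set_option autoImplicit false
set_option linter.style.haveILetI false
set_option linter.unusedSectionVars false

open Subgroup DihedralGroup
open Cfsg.Agent.Lib.Fusion.Dihedral (par)

namespace Cfsg.Agent.Lib.DihedralPair

universe u

variable {G : Type u} [Group G] [Finite G] {S : Sylow 2 G} {n m : ℕ} [NeZero n] [NeZero m]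
  (D : Pr S (DihedralGroup n) (DihedralGroup m))

namespace Pr

/-- Central in the model. -/
def Cen {A B : Type*} [Group A] [Group B] (p : A × B) : Prop := ∀ q, p * q = q * p

theorem cen_zed (hn : 4 ∣ n) (hm : 4 ∣ m) :
    Cen ((zed n, 1) : DihedralGroup n × DihedralGroup m) ∧
      Cen ((1, zed m) : DihedralGroup n × DihedralGroup m) ∧
      Cen ((zed n, zed m) : DihedralGroup n × DihedralGroup m) := by
  refine ⟨fun q => ?_, fun q => ?_, fun q => ?_⟩ <;> ext <;>
    simp [zed_comm hn, zed_comm hm]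

theorem cen_cases (hn : 4 ∣ n) (hm : 4 ∣ m) {p : DihedralGroup n × DihedralGroup m} (hp : Cen p)
    (h1 : p ≠ 1) : p = (zed n, 1) ∨ p = (1, zed m) ∨ p = (zed n, zed m) := by
  have e1 := central_cases hn (x := p.1) fun y => by simpa using congrArg Prod.fst (hp (y, 1))
  have e2 := central_cases hm (x := p.2) fun y => by simpa using congrArg Prod.snd (hp (1, y))
  obtain ⟨a, b⟩ := p
  rcases e1 with rfl | rfl <;> rcases e2 with rfl | rfl
  · exact absurd rfl h1
  · exact Or.inr (Or.inl rfl)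
  · exact Or.inl rfl
  · exact Or.inr (Or.inr rfl)

/-- Commutators of `S` of order two are central. -/
theorem cen_of_commutator (hn : 4 ∣ n) (hm : 4 ∣ m) (p q : DihedralGroup n × DihedralGroup m)
    (h : (p * q * p⁻¹ * q⁻¹) * (p * q * p⁻¹ * q⁻¹) = 1) : Cen (p * q * p⁻¹ * q⁻¹) := by
  have e1 := commutator_involution (a := p.1) (b := q.1) (congrArg Prod.fst h)
  have e2 := commutator_involution (a := p.2) (b := q.2) (congrArg Prod.snd h)
  intro r
  ext
  · show p.1 * q.1 * p.1⁻¹ * q.1⁻¹ * r.1 = r.1 * (p.1 * q.1 * p.1⁻¹ * q.1⁻¹)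
    rcases e1 with e | e <;> rw [e]
    · simp
    · exact zed_comm hn _
  · show p.2 * q.2 * p.2⁻¹ * q.2⁻¹ * r.2 = r.2 * (p.2 * q.2 * p.2⁻¹ * q.2⁻¹)
    rcases e2 with e | e <;> rw [e]
    · simp
    · exact zed_comm hm _

/-- `z` is the only nontrivial value of the commutators with some element. -/
def Lonely {H : Type*} [Group H] (z : H) : Prop :=
  ∃ x, (∃ y, x * y * x⁻¹ * y⁻¹ = z) ∧ ∀ y, x * y * x⁻¹ * y⁻¹ = 1 ∨ x * y * x⁻¹ * y⁻¹ = z

theorem lonely_left (hn : 4 ∣ n) : Lonely ((zed n, 1) : DihedralGroup n × DihedralGroup m) := by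
  refine ⟨(quarter n, 1), ⟨(sr 0, 1), Prod.ext (zed_eq_commutator hn) (by simp)⟩, fun y => ?_⟩
  rcases quarter_commutator hn y.1 with e | e
  · exact Or.inl (Prod.ext e (by simp))
  · exact Or.inr (Prod.ext e (by simp))

theorem not_lonely_mixed (hn : 4 ∣ n) (hm : 4 ∣ m) :
    ¬ Lonely ((zed n, zed m) : DihedralGroup n × DihedralGroup m) := by
  rintro ⟨x, ⟨y, hy⟩, hall⟩
  have h1 : ∀ w, x.1 * w * x.1⁻¹ * w⁻¹ = 1 := fun w => by
    rcases hall (w, 1) with e | e
    · exact congrArg Prod.fst e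
    · exact absurd (congrArg Prod.snd e) (by simpa using (zed_ne_one hm).symm)
  have h2 := congrArg Prod.fst hy
  exact zed_ne_one hn (h2.symm.trans (h1 y.1))

variable {D}

theorem lonely_conj {p q : DihedralGroup n × DihedralGroup m} {g : G}
    (hg : g ∈ normalizer ((S : Subgroup G) : Set G)) (h : g * D.f p * g⁻¹ = D.f q)
    (hp : Lonely p) : Lonely q := by
  obtain ⟨θ, hθi, hθ⟩ := D.exists_action hg
  have hpq : θ p = q := D.inj ((hθ p).trans h)
  have hsurj := Finite.injective_iff_surjective.1 hθi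
  obtain ⟨x, ⟨y, hy⟩, hall⟩ := hp
  refine ⟨θ x, ⟨θ y, by rw [← hpq, ← hy, map_mul, map_mul, map_mul, map_inv, map_inv]⟩, fun w => ?_⟩
  obtain ⟨w, rfl⟩ := hsurj w
  rw [← map_inv, ← map_inv, ← map_mul, ← map_mul, ← map_mul, ← hpq]
  rcases hall w with e | e
  · exact Or.inl (by rw [e, map_one])
  · exact Or.inr (by rw [e])

/-- The three central involutions are pairwise non-conjugate. -/
theorem not_conj_central (hn : 4 ∣ n) (hm : 4 ∣ m) (g : G) :
    g * D.f (zed n, 1) * g⁻¹ ≠ D.f (1, zed m) ∧ g * D.f (zed n, 1) * g⁻¹ ≠ D.f (zed n, zed m) ∧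
      g * D.f (1, zed m) * g⁻¹ ≠ D.f (zed n, zed m) := by
  obtain ⟨ha, hb, hc⟩ := cen_zed hn hm
  have hbL : Lonely ((1, zed m) : DihedralGroup n × DihedralGroup m) := by
    obtain ⟨x, ⟨y, hy⟩, hall⟩ := lonely_left (m := n) hm
    refine ⟨x.swap, ⟨y.swap, congrArg Prod.swap hy⟩, fun w => ?_⟩
    rcases hall w.swap with e | e
    · exact Or.inl (congrArg Prod.swap e)
    · exact Or.inr (congrArg Prod.swap e)
  refine ⟨fun e => ?_, fun e => ?_, fun e => ?_⟩
  · obtain ⟨k, hk, ek⟩ := D.exists_normalizer_conj ha hb e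
    obtain ⟨θ, hθi, hθ⟩ := D.exists_action hk
    have e1 : θ (zed n, 1) = (1, zed m) := D.inj ((hθ _).trans ek)
    have hsurj := Finite.injective_iff_surjective.1 hθi
    have hbc : Cen (θ (1, zed m)) := fun q => by
      obtain ⟨q, rfl⟩ := hsurj q
      rw [← map_mul, ← map_mul, hb]
    have hb1 : θ (1, zed m) ≠ 1 := fun h => zed_ne_one hm
      (congrArg Prod.snd (hθi (h.trans (map_one θ).symm)))
    have e2 : θ (1, zed m) = (zed n, 1) := by
      rcases cen_cases hn hm hbc hb1 with h | h | h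
      · exact h
      · exact absurd (congrArg Prod.snd (hθi (h.trans e1.symm))) (by simpa using zed_ne_one hm)
      · exact absurd (h ▸ lonely_conj hk (hθ _).symm hbL) (not_lonely_mixed hn hm)
    have hfix : k * D.f (zed n, zed m) * k⁻¹ = D.f (zed n, zed m) := by
      rw [← hθ]
      congr 1
      rw [show ((zed n, zed m) : DihedralGroup n × DihedralGroup m) = (zed n, 1) * (1, zed m) by
        simp, map_mul, e1, e2]
      simp
    refine zed_ne_one hn (congrArg Prod.fst (D.eq_one (eq_one_of_translate hk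
      (D.central_mem_centralizer ha) ?_ ?_ hfix)))
    · rw [← map_mul, Prod.mk_mul_mk, zed_sq hn, zed_sq hm]
      exact map_one _
    · rw [ek, ← map_mul, Prod.mk_mul_mk, zed_sq hn, one_mul]
  · obtain ⟨k, hk, ek⟩ := D.exists_normalizer_conj ha hc e
    exact not_lonely_mixed hn hm (lonely_conj hk ek (lonely_left hn))
  · obtain ⟨k, hk, ek⟩ := D.exists_normalizer_conj hb hc e
    exact not_lonely_mixed hn hm (lonely_conj hk ek hbL)

variable (D)

/-- `(sr i, e)` is conjugate to the first central involution, fixing the second. -/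
def QA (i : ZMod n) (e : DihedralGroup m) : Prop :=
  ∃ g : G, g * D.f (sr i, e) * g⁻¹ = D.f (zed n, 1) ∧ g * D.f (1, zed m) * g⁻¹ = D.f (1, zed m) ∧
    ∀ s, s * ((sr i, 1) : DihedralGroup n × DihedralGroup m) = (sr i, 1) * s →
      g * D.f s * g⁻¹ ∈ (S : Subgroup G)

/-- All reflections of the first factor are conjugate to its central involution. -/
def Normal : Prop := ∀ i : ZMod n, D.QA i 1

variable {D}

theorem exists_QA (hn : 4 ∣ n) (hm : 4 ∣ m) (hG : ∀ N : Subgroup G, N.index ≠ 2) (i : ZMod n) :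
    ∃ e, (e = 1 ∨ e = zed m) ∧ D.QA i e := by
  set o : Multiplicative (ZMod 2) := Multiplicative.ofAdd 1
  have ho : o * o = 1 := by decide
  let χA : DihedralGroup n →* Multiplicative (ZMod 2) :=
    chi (two_dvd hn) 1 o (one_mul 1) ho (by simp)
  let χB : DihedralGroup m →* Multiplicative (ZMod 2) :=
    chi (two_dvd hm) 1 o (one_mul 1) ho (by simp)
  have hA : ∀ j, χA (sr j) = o := fun j => by simp [χA, chi_sr]
  have hB : ∀ j, χB (sr j) = o := fun j => by simp [χB, chi_sr]
  have ho1 : o ≠ 1 := by decide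
  obtain ⟨g, ⟨u1, u2⟩, hu, hgu, hgS⟩ := D.exists_transfer hG
    (MonoidHom.coprod χA χB) (fun y => by
      rcases (by decide : ∀ y : Multiplicative (ZMod 2), y = 1 ∨ y = Multiplicative.ofAdd 1) y with
        rfl | rfl
      · exact ⟨1, map_one _⟩
      · exact ⟨(sr 0, 1), by simp [MonoidHom.coprod_apply, hA, o]⟩)
    (x := (sr i, 1)) (by simp) (fun h => sr_ne_one i (congrArg Prod.fst h))
  rw [MonoidHom.coprod_apply] at hu
  -- the image of the second central involution
  obtain ⟨a, ha⟩ := D.exists_eq (hgS (1, quarter m) (by simp))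
  obtain ⟨b, hb⟩ := D.exists_eq (hgS (1, sr 0) (by simp))
  have hzb : g * D.f (1, zed m) * g⁻¹ = D.f (a * b * a⁻¹ * b⁻¹) := by
    rw [show ((1, zed m) : DihedralGroup n × DihedralGroup m) =
      (1, quarter m) * (1, sr 0) * (1, quarter m)⁻¹ * (1, sr 0)⁻¹ from
        Prod.ext (by simp) (zed_eq_commutator hm).symm,
      map_mul, map_mul, map_mul, map_inv, map_inv,
      map_mul, map_mul, map_mul, map_inv, map_inv, ha, hb]
    group
  have hinv : ∀ p q : DihedralGroup n × DihedralGroup m, p * p = 1 → g * D.f p * g⁻¹ = D.f q →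
      q * q = 1 := fun p q hp e => D.eq_one (by
    rw [map_mul, ← e, show g * D.f p * g⁻¹ * (g * D.f p * g⁻¹) = g * (D.f p * D.f p) * g⁻¹ by group,
      ← map_mul, hp, map_one, mul_one, mul_inv_cancel])
  have hcomm_u : ∀ p, p * ((sr i, 1) : DihedralGroup n × DihedralGroup m) = (sr i, 1) * p →
      ∀ q, g * D.f p * g⁻¹ = D.f q → q * (u1, u2) = (u1, u2) * q := fun p hp q e => D.inj (by
    rw [map_mul, map_mul, ← e, ← hgu, show g * D.f p * g⁻¹ * (g * D.f (sr i, 1) * g⁻¹) =
      g * (D.f p * D.f (sr i, 1)) * g⁻¹ by group, ← map_mul, hp, map_mul]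
    group)
  have hu2 : ((u1, u2) : DihedralGroup n × DihedralGroup m) * (u1, u2) = 1 :=
    hinv _ _ (by simp) hgu
  have hu1 : ((u1, u2) : DihedralGroup n × DihedralGroup m) ≠ 1 := fun h => by
    rw [h, map_one, conj_eq_one_iff] at hgu
    exact sr_ne_one i (congrArg Prod.fst (D.eq_one hgu))
  have hzcen := cen_of_commutator hn hm a b (hinv (1, zed m) _ (by simp [zed_sq hm]) hzb)
  have hz1 : a * b * a⁻¹ * b⁻¹ ≠ 1 := fun h => by
    rw [h, map_one, conj_eq_one_iff] at hzb
    exact zed_ne_one hm (congrArg Prod.snd (D.eq_one hzb))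
  -- it is itself
  have hzbfix : g * D.f (1, zed m) * g⁻¹ = D.f (1, zed m) := by
    rcases cen_cases hn hm hzcen hz1 with h | h | h <;> rw [h] at hzb
    · exact absurd (show g⁻¹ * D.f (zed n, 1) * g⁻¹⁻¹ = D.f (1, zed m) by rw [← hzb]; group)
        (not_conj_central hn hm g⁻¹).1
    · exact hzb
    · exact absurd hzb (not_conj_central hn hm g).2.2
  have hcen : Cen ((u1, u2) : DihedralGroup n × DihedralGroup m) := by
    -- otherwise the centralizer of the image is abelian
    have hk : ∀ {k : ℕ} [NeZero k], 4 ∣ k → ∀ {u : DihedralGroup k}, u * u = 1 →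
        (∀ v, u * v = v * u) ∨ ∃ j, u = sr j := by
      intro k _ hk4 u h
      rcases eq_or_ne u 1 with rfl | h1
      · exact Or.inl fun v => by simp
      · rcases involution_cases h h1 with rfl | ⟨j, hj⟩
        · exact Or.inl (zed_comm hk4)
        · exact Or.inr ⟨j, hj⟩
    rcases hk hn (congrArg Prod.fst hu2) with c1 | ⟨j1, rfl⟩ <;>
      rcases hk hm (congrArg Prod.snd hu2) with c2 | ⟨j2, rfl⟩
    · exact fun q => Prod.ext (c1 _) (c2 _)
    · rw [hB] at hu
      rcases eq_or_ne u1 1 with rfl | h1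
      · exact absurd (by simpa using hu) ho1
      · rcases involution_cases (congrArg Prod.fst hu2) h1 with rfl | ⟨j, rfl⟩
        · rw [chi_zed hn, one_mul] at hu
          exact absurd hu ho1
        · exact absurd (c1 (r 1)) fun e => by
            rcases central_cases hn c1 with e' | e'
            · exact sr_ne_one j e'
            · exact sr_ne_zed j e'
    · rw [hA] at hu
      rcases eq_or_ne u2 1 with rfl | h1
      · exact absurd (by simpa using hu) ho1
      · rcases involution_cases (congrArg Prod.snd hu2) h1 with rfl | ⟨j, rfl⟩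
        · rw [chi_zed hm, mul_one] at hu
          exact absurd hu ho1
        · rcases central_cases hm c2 with e' | e'
          · exact absurd e' (sr_ne_one j)
          · exact absurd e' (sr_ne_zed j)
    · exfalso
      have habel : ∀ {k : ℕ} [NeZero k], 4 ∣ k → ∀ {x y : DihedralGroup k} {j : ZMod k},
          x * sr j = sr j * x → y * sr j = sr j * y → x * y = y * x := by
        intro k _ hk4 x y j hx hy
        have hzs : Commute (zed k) (sr j) := zed_comm hk4 _
        rcases comm_sr_cases hx with rfl | rfl | rfl | rfl <;>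
          rcases comm_sr_cases hy with rfl | rfl | rfl | rfl
        all_goals first
          | simp
          | exact hzs.eq
          | exact hzs.symm.eq
          | exact ((Commute.refl (zed k)).mul_right hzs).eq
          | exact ((Commute.refl (zed k)).mul_left hzs.symm).eq
          | exact (hzs.symm.mul_right (Commute.refl _)).eq
          | exact (hzs.mul_left (Commute.refl _)).eq
      have hac := hcomm_u (1, quarter m) (by simp) a ha.symm
      have hbc := hcomm_u (1, sr 0) (by simp) b hb.symm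
      have hab : a * b = b * a := Prod.ext
        (habel hn (congrArg Prod.fst hac) (congrArg Prod.fst hbc))
        (habel hm (congrArg Prod.snd hac) (congrArg Prod.snd hbc))
      exact hz1 (by rw [hab, mul_inv_cancel_right, mul_inv_cancel])
  rcases cen_cases hn hm hcen hu1 with h | h | h <;> rw [h] at hgu
  · exact ⟨1, Or.inl rfl, g, hgu, hzbfix, hgS⟩
  · exact absurd (congrArg Prod.fst (D.inj ((MulAut.conj g).injective (hgu.trans hzbfix.symm))))
      (sr_ne_one i)
  · refine ⟨zed m, Or.inr rfl, g, ?_, hzbfix, hgS⟩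
    rw [show ((sr i, zed m) : DihedralGroup n × DihedralGroup m) = (sr i, 1) * (1, zed m) by simp,
      map_mul, show g * (D.f (sr i, 1) * D.f (1, zed m)) * g⁻¹ =
        g * D.f (sr i, 1) * g⁻¹ * (g * D.f (1, zed m) * g⁻¹) by group, hgu, hzbfix, ← map_mul]
    simp [zed_sq hm]

theorem QA_conj (hn : 4 ∣ n) {i j : ZMod n} (h : par (two_dvd hn) i = par (two_dvd hn) j)
    {e : DihedralGroup m} (hj : D.QA j e) : D.QA i e := by
  obtain ⟨w, hw⟩ := exists_conj_sr (two_dvd hn) h
  obtain ⟨g, h1, h2, h3⟩ := hj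
  have key : ∀ p : DihedralGroup n × DihedralGroup m,
      g * (D.f (w, 1))⁻¹ * D.f p * (g * (D.f (w, 1))⁻¹)⁻¹ =
        g * D.f (w⁻¹ * p.1 * w, p.2) * g⁻¹ := by
    intro p
    rw [← map_inv, show g * D.f (w, 1)⁻¹ * D.f p * (g * D.f (w, 1)⁻¹)⁻¹ =
      g * (D.f (w, 1)⁻¹ * D.f p * (D.f (w, 1)⁻¹)⁻¹) * g⁻¹ by group, ← map_inv, ← map_mul, ← map_mul]
    congr 3
    simp [Prod.ext_iff]
  refine ⟨g * (D.f (w, 1))⁻¹, ?_, ?_, fun s hs => ?_⟩
  · rw [key, ← h1, ← hw]
    simp [mul_assoc]
  · rw [key, show w⁻¹ * (1 : DihedralGroup n) * w = 1 by simp]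
    exact h2
  · rw [key]
    refine h3 _ (Prod.ext ?_ ?_)
    · have := congrArg Prod.fst hs
      simp only [Prod.fst_mul] at this
      rw [show sr j = w⁻¹ * sr i * w by rw [← hw]; group]
      show w⁻¹ * s.1 * w * (w⁻¹ * sr i * w) = w⁻¹ * sr i * w * (w⁻¹ * s.1 * w)
      calc w⁻¹ * s.1 * w * (w⁻¹ * sr i * w) = w⁻¹ * (s.1 * sr i) * w := by group
        _ = w⁻¹ * (sr i * s.1) * w := by rw [this]
        _ = _ := by group
    · simp

/-- A central homomorphism adjusting the first factor. -/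
theorem exists_adjust (hn : 4 ∣ n) (hm : 4 ∣ m) (hG : ∀ N : Subgroup G, N.index ≠ 2) :
    ∃ φ : DihedralGroup n →* DihedralGroup m, φ (zed n) = 1 ∧ (∀ a, φ a = 1 ∨ φ a = zed m) ∧
      ∀ i, D.QA i (φ (sr i)) := by
  obtain ⟨e0, he0, h0⟩ := exists_QA (D := D) hn hm hG 0
  obtain ⟨e1, he1, h1⟩ := exists_QA (D := D) hn hm hG 1
  have hsq : ∀ e, (e = 1 ∨ e = zed m) → e * e = 1 := by
    rintro e (rfl | rfl)
    · exact one_mul 1
    · exact zed_sq hm
  have hde : e0 * e1 = 1 ∨ e0 * e1 = zed m := by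
    rcases he0 with rfl | rfl <;> rcases he1 with rfl | rfl <;> simp [zed_sq hm]
  have hc : e0 * e1 * e0 = e0 * (e0 * e1) := by
    rcases he0 with rfl | rfl <;> rcases he1 with rfl | rfl <;> simp [zed_sq hm]
  refine ⟨chi (two_dvd hn) (e0 * e1) e0 (hsq _ hde) (hsq _ he0) hc, chi_zed hn _ _ _ _ _, ?_, ?_⟩
  · have hv : ∀ k : ZMod 2, k.val = 0 ∨ k.val = 1 := by decide
    intro a
    cases a with
    | r j =>
      rw [chi_r]
      rcases hv (par (two_dvd hn) j) with h | h <;> rw [h]
      · exact Or.inl (pow_zero _)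
      · rw [pow_one]; exact hde
    | sr j =>
      rw [chi_sr]
      rcases hv (par (two_dvd hn) j) with h | h <;> rw [h]
      · rw [pow_zero, mul_one]; exact he0
      · rw [pow_one, ← mul_assoc, hsq _ he0, one_mul]; exact he1
  · intro i
    rw [chi_sr]
    rcases (by decide : ∀ k : ZMod 2, k = 0 ∨ k = 1) (par (two_dvd hn) i) with h | h
    · rw [h, ZMod.val_zero, pow_zero, mul_one]
      exact QA_conj hn (h.trans (map_zero _).symm) h0
    · rw [h, ZMod.val_one, pow_one, ← mul_assoc, hsq _ he0, one_mul]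
      exact QA_conj hn (h.trans (map_one _).symm) h1

/-- A factorization in which all reflections are conjugate to their central involution. -/
theorem exists_normal (D : Pr S (DihedralGroup n) (DihedralGroup m)) (hn : 4 ∣ n) (hm : 4 ∣ m)
    (hG : ∀ N : Subgroup G, N.index ≠ 2) :
    ∃ D' : Pr S (DihedralGroup n) (DihedralGroup m), D'.Normal ∧ D'.swap.Normal := by
  obtain ⟨φ, hφz, hφv, hφ⟩ := exists_adjust (D := D) hn hm hG
  obtain ⟨ψ, hψz, hψv, hψ⟩ := exists_adjust (D := D.swap) hm hn hG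
  have hφc : ∀ a b, φ a * b = b * φ a := fun a b => by
    rcases hφv a with e | e <;> rw [e]
    · simp
    · exact zed_comm hm b
  have hψc : ∀ b a, ψ b * a = a * ψ b := fun b a => by
    rcases hψv b with e | e <;> rw [e]
    · simp
    · exact zed_comm hn a
  have hφψ : ∀ b, φ (ψ b) = 1 := fun b => by
    rcases hψv b with e | e <;> rw [e]
    · exact map_one φ
    · exact hφz
  refine ⟨D.twist φ ψ hφc hψc hφψ, fun i => ?_, fun i => ?_⟩
  · obtain ⟨g, h1, h2, h3⟩ := hφ i
    refine ⟨g, ?_, ?_, fun s hs => ?_⟩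
    · rw [twist_f, twist_f]; simpa [hφz] using h1
    · rw [twist_f]; simpa [hψz] using h2
    · rw [twist_f]
      refine h3 _ (Prod.ext ?_ (by simp))
      have := congrArg Prod.fst hs
      simp only [Prod.fst_mul] at this ⊢
      rw [mul_assoc, hψc, ← mul_assoc, this, mul_assoc]
  · obtain ⟨g, h1, h2, h3⟩ := hψ i
    refine ⟨g, ?_, ?_, fun s hs => ?_⟩
    · rw [swap_f, swap_f, twist_f, twist_f]; simpa [swap_f, hψz] using h1
    · rw [swap_f, twist_f]; simpa [swap_f, hφz] using h2
    · rw [swap_f, twist_f]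
      refine h3 (φ s.2 * s.1, s.2 * ψ s.1) (Prod.ext ?_ (by simp))
      have := congrArg Prod.fst hs
      simp only [Prod.fst_mul] at this ⊢
      rw [mul_assoc, this, ← mul_assoc, hφc, mul_assoc]

end Pr

end Cfsg.Agent.Lib.DihedralPair
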