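import Mathlib
import Cfsg.Agent.Lib.DihedralPair.Big

/-!
# Two dihedral factors of order at least eight: separation of the classes of involutions

Owner: helper78.
-/

set_option autoImplicit false
set_option linter.style.haveILetI false
set_option linter.unusedSectionVars false

open Subgroup DihedralGroup
open Cfsg.Agent.Lib.Fusion.Dihedral (par)

namespace Cfsg.Agent.Lib.DihedralPair

universe u

variable {G : Type u} [Group G] [Finite G] {S : Sylow 2 G} {n m : ℕ} [NeZero n] [NeZero m]
  {D : Pr S (DihedralGroup n) (DihedralGroup m)}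

namespace Pr

/-- Conjugacy of the images. -/
def Rel {A B : Type*} [Group A] [Group B] (D : Pr S A B) (p q : A × B) : Prop :=
  IsConj (D.f p) (D.f q)

theorem rel_of {A B : Type*} [Group A] [Group B] (D : Pr S A B) {p q : A × B} {g : G}
    (h : g * D.f p * g⁻¹ = D.f q) : D.Rel p q := isConj_iff.2 ⟨g, h⟩

theorem rel_inner {A B : Type*} [Group A] [Group B] (D : Pr S A B) (p w : A × B) :
    D.Rel p (w * p * w⁻¹) := D.rel_of (g := D.f w) (by simp)

theorem rel_swap {A B : Type*} [Group A] [Group B] (D : Pr S A B) {p q : B × A} :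
    D.swap.Rel p q ↔ D.Rel (p.2, p.1) (q.2, q.1) := Iff.rfl

/-- Involutions of the first factor are conjugate to its central involution. -/
theorem rel_left (h : D.Normal) {a : DihedralGroup n} (ha : a * a = 1) (ha1 : a ≠ 1) :
    D.Rel (a, 1) (zed n, 1) := by
  rcases involution_cases ha ha1 with rfl | ⟨i, rfl⟩
  · exact IsConj.refl _
  · obtain ⟨g, hg, -, -⟩ := h i
    exact D.rel_of hg

/-- A reflection times the other central involution is mixed. -/
theorem rel_refl_zed (h : D.Normal) (i : ZMod n) : D.Rel (sr i, zed m) (zed n, zed m) := by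
  obtain ⟨g, h1, h2, -⟩ := h i
  refine D.rel_of (g := g) ?_
  rw [show ((sr i, zed m) : DihedralGroup n × DihedralGroup m) = (sr i, 1) * (1, zed m) by simp,
    map_mul, show g * (D.f (sr i, 1) * D.f (1, zed m)) * g⁻¹ =
      g * D.f (sr i, 1) * g⁻¹ * (g * D.f (1, zed m) * g⁻¹) by group, h1, h2, ← map_mul]
  simp

theorem rel_zed_refl (h : D.swap.Normal) (j : ZMod m) : D.Rel (zed n, sr j) (zed n, zed m) :=
  rel_refl_zed (D := D.swap) h j

/-- A product of two reflections is mixed or conjugate to the second central involution. -/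
theorem rel_double (hn : 4 ∣ n) (hm : 4 ∣ m) (h : D.Normal) (h' : D.swap.Normal) (i : ZMod n)
    (j : ZMod m) : D.Rel (sr i, sr j) (zed n, zed m) ∨ D.Rel (sr i, sr j) (1, zed m) := by
  obtain ⟨g, h1, h2, h3⟩ := h i
  obtain ⟨⟨p1, p2⟩, hp⟩ := D.exists_eq (h3 (1, sr j) (by simp))
  have hpsq : ((p1, p2) : DihedralGroup n × DihedralGroup m) * (p1, p2) = 1 := D.eq_one (by
    rw [map_mul, hp, show g * D.f (1, sr j) * g⁻¹ * (g * D.f (1, sr j) * g⁻¹) =
      g * (D.f (1, sr j) * D.f (1, sr j)) * g⁻¹ by group, ← map_mul]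
    simp [Prod.mk_one_one])
  have hpb : D.Rel (p1, p2) (1, zed m) := by
    obtain ⟨k, hk, -, -⟩ := h' j
    exact (D.rel_of hp.symm).symm.trans (D.rel_of (g := k) (by simpa [swap_f] using hk))
  have himg : D.Rel (sr i, sr j) (zed n * p1, p2) := by
    refine D.rel_of (g := g) ?_
    rw [show ((sr i, sr j) : DihedralGroup n × DihedralGroup m) = (sr i, 1) * (1, sr j) by simp,
      map_mul, show g * (D.f (sr i, 1) * D.f (1, sr j)) * g⁻¹ =
        g * D.f (sr i, 1) * g⁻¹ * (g * D.f (1, sr j) * g⁻¹) by group, h1, ← hp, ← map_mul]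
    simp
  have hab : ¬ D.Rel (1, zed m) (zed n, 1) := fun e => by
    obtain ⟨k, hk⟩ := isConj_iff.1 e.symm
    exact (not_conj_central hn hm k).1 hk
  have hbc : ¬ D.Rel (1, zed m) (zed n, zed m) := fun e => by
    obtain ⟨k, hk⟩ := isConj_iff.1 e
    exact (not_conj_central hn hm k).2.2 hk
  have hne : ((p1, p2) : DihedralGroup n × DihedralGroup m) ≠ (1, zed m) := fun e => by
    rw [e, ← h2] at hp
    exact sr_ne_zed j (congrArg Prod.snd (D.inj ((MulAut.conj g).injective hp))).symm
  have hne1 : ((p1, p2) : DihedralGroup n × DihedralGroup m) ≠ 1 := fun e => by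
    rw [e, map_one, eq_comm, conj_eq_one_iff] at hp
    exact sr_ne_one j (congrArg Prod.snd (D.eq_one hp))
  have s1 : p1 * p1 = 1 := congrArg Prod.fst hpsq
  have s2 : p2 * p2 = 1 := congrArg Prod.snd hpsq
  rcases eq_or_ne p2 1 with rfl | n2
  · have n1 : p1 ≠ 1 := fun e => hne1 (by rw [e]; rfl)
    exact absurd (hpb.symm.trans (rel_left h s1 n1)) hab
  rcases eq_or_ne p1 1 with rfl | n1
  · rcases involution_cases s2 n2 with rfl | ⟨j', rfl⟩
    · exact absurd rfl hne
    · left
      rw [mul_one] at himg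
      exact himg.trans (rel_zed_refl h' j')
  rcases involution_cases s1 n1 with rfl | ⟨i', rfl⟩
  · rcases involution_cases s2 n2 with rfl | ⟨j', rfl⟩
    · exact absurd hpb.symm hbc
    · exact absurd (hpb.symm.trans (rel_zed_refl h' j')) hbc
  rcases involution_cases s2 n2 with rfl | ⟨j', rfl⟩
  · exact absurd (hpb.symm.trans (rel_refl_zed h i')) hbc
  · right
    refine himg.trans (IsConj.trans (IsConj.symm ?_) hpb)
    have e : ((zed n * sr i', sr j') : DihedralGroup n × DihedralGroup m) =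
        (quarter n, 1) * (sr i', sr j') * (quarter n, 1)⁻¹ := by
      simp [quarter_conj_sr hn]
    rw [e]
    exact D.rel_inner _ _

theorem rel_mixed (hn : 4 ∣ n) (hm : 4 ∣ m) (h : D.Normal) (h' : D.swap.Normal)
    {a : DihedralGroup n} {b : DihedralGroup m} (ha : a * a = 1) (ha1 : a ≠ 1) (hb : b * b = 1)
    (hb1 : b ≠ 1) : D.Rel (a, b) (zed n, zed m) := by
  rcases involution_cases ha ha1 with rfl | ⟨i, rfl⟩ <;>
    rcases involution_cases hb hb1 with rfl | ⟨j, rfl⟩
  · exact IsConj.refl _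
  · exact rel_zed_refl h' j
  · exact rel_refl_zed h i
  · rcases rel_double hn hm h h' i j with e | e
    · exact e
    · rcases rel_double (D := D.swap) hm hn h' h j i with e' | e'
      · exact e'
      · obtain ⟨k, hk⟩ := isConj_iff.1 (((D.rel_swap.1 e').symm.trans e))
        exact absurd hk (not_conj_central hn hm k).1

theorem sep_of_normal (hn : 4 ∣ n) (hm : 4 ∣ m) (h : D.Normal) (h' : D.swap.Normal) : D.Sep where
  left_right a b ha ha1 hb hb1 g e := by
    obtain ⟨k, hk⟩ := isConj_iff.1 (((rel_left h ha ha1).symm.trans (D.rel_of e)).trans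
      (D.rel_swap.1 (rel_left (D := D.swap) h' hb hb1)))
    exact (not_conj_central hn hm k).1 hk
  left_mixed a a' b ha ha1 ha' ha1' hb hb1 g e := by
    obtain ⟨k, hk⟩ := isConj_iff.1 (((rel_left h ha ha1).symm.trans (D.rel_of e)).trans
      (rel_mixed hn hm h h' ha' ha1' hb hb1))
    exact (not_conj_central hn hm k).2.1 hk
  right_mixed b b' a hb hb1 hb' hb1' ha ha1 g e := by
    obtain ⟨k, hk⟩ := isConj_iff.1 (((D.rel_swap.1 (rel_left (D := D.swap) h' hb hb1)).symm.trans
      (D.rel_of e)).trans (rel_mixed hn hm h h' ha ha1 hb' hb1'))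
    exact (not_conj_central hn hm k).2.2 hk

theorem reflHyp_of_normal (hm : 4 ∣ m) (h' : D.swap.Normal) : D.ReflHyp := by
  intro b hb hnc
  rcases eq_or_ne b 1 with rfl | hb1
  · obtain ⟨w, hw⟩ := hnc
    exact absurd (by simp) hw
  rcases involution_cases hb hb1 with rfl | ⟨j, rfl⟩
  · obtain ⟨w, hw⟩ := hnc
    exact absurd (zed_comm hm w) hw
  obtain ⟨g, h1, -, h3⟩ := h' j
  refine ⟨zed m, zed_sq hm, zed_ne_one hm, zed_comm hm, g, by simpa [swap_f] using h1, fun a => ?_⟩
  simpa [swap_f] using h3 (1, a) (by simp)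

end Pr

end Cfsg.Agent.Lib.DihedralPair
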