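import Mathlib
import Cfsg.Agent.Lib.DihedralPair.BigSep

/-!
# A four-group factor and a dihedral factor of order at least eight: the action of the normalizer

Owner: helper78.
-/

set_option autoImplicit false
set_option linter.style.haveILetI false
set_option linter.unusedSectionVars false
set_option linter.unnecessarySeqFocus false

open Subgroup DihedralGroup
open Cfsg.Agent.Lib.Fusion.Dihedral (par)

namespace Cfsg.Agent.Lib.DihedralPair

universe u v

variable {G : Type u} [Group G] [Finite G] {S : Sylow 2 G} {m : ℕ} [NeZero m]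
  {A : Type v} [Group A] [Finite A] {D : Pr S A (DihedralGroup m)}

/-- A group of order four and exponent two. -/
structure IsFourType (A : Type v) [Group A] : Prop where
  sq : ∀ a : A, a * a = 1
  card : Nat.card A = 4

theorem IsFourType.comm (hA : IsFourType A) (a b : A) : a * b = b * a := by
  have h := hA.sq (a * b)
  rw [mul_eq_one_iff_eq_inv, mul_inv_rev, inv_eq_of_mul_eq_one_right (hA.sq a),
    inv_eq_of_mul_eq_one_right (hA.sq b)] at h
  exact h

theorem IsFourType.cases (hA : IsFourType A) {v w : A} (hv : v ≠ 1) (hw : w ≠ 1) (hvw : v ≠ w)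
    (x : A) : x = 1 ∨ x = v ∨ x = w ∨ x = v * w := by
  classical
  haveI := Fintype.ofFinite A
  have h1 : v * w ≠ 1 := fun e => hvw (by
    rw [mul_eq_one_iff_eq_inv, inv_eq_of_mul_eq_one_right (hA.sq w)] at e; exact e)
  have h2 : v * w ≠ v := fun e => hw (mul_eq_left.1 e)
  have h3 : v * w ≠ w := fun e => hv (mul_eq_right.1 e)
  have hu : ({1, v, w, v * w} : Finset A) = Finset.univ := by
    apply Finset.eq_univ_of_card
    rw [← Nat.card_eq_fintype_card, hA.card,
      Finset.card_insert_of_notMem (by simp [hv.symm, hw.symm, h1.symm]),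
      Finset.card_insert_of_notMem (by simp [hvw, h2.symm]),
      Finset.card_insert_of_notMem (by simp [h3.symm]), Finset.card_singleton]
  simpa [← hu] using Finset.mem_univ x

namespace Pr

theorem cen_A_zed (hA : IsFourType A) (hm : 4 ∣ m) (a : A) {e : DihedralGroup m}
    (he : e = 1 ∨ e = zed m) : Cen ((a, e) : A × DihedralGroup m) := fun q =>
  Prod.ext (hA.comm a q.1) (by rcases he with rfl | rfl <;> simp [zed_comm hm])

theorem cen_four_cases (hm : 4 ∣ m) {p : A × DihedralGroup m} (hp : Cen p) :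
    p.2 = 1 ∨ p.2 = zed m :=
  central_cases hm fun y => by simpa using congrArg Prod.snd (hp (1, y))

/-- The central involution of the dihedral factor is fixed by the normalizer. -/
theorem fix_zed (hA : IsFourType A) (hm : 4 ∣ m) {k : G}
    (hk : k ∈ normalizer ((S : Subgroup G) : Set G)) :
    k * D.f (1, zed m) * k⁻¹ = D.f (1, zed m) := by
  obtain ⟨θ, hθi, hθ⟩ := D.exists_action hk
  rw [← hθ]
  congr 1
  have e : ((1, zed m) : A × DihedralGroup m) =
      (1, quarter m) * (1, sr 0) * (1, quarter m)⁻¹ * (1, sr 0)⁻¹ :=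
    Prod.ext (by simp) (zed_eq_commutator hm).symm
  set a := θ (1, quarter m)
  set b := θ (1, sr 0)
  have ez : θ (1, zed m) = a * b * a⁻¹ * b⁻¹ := by
    rw [e, map_mul, map_mul, map_mul, map_inv, map_inv]
  have e1 : (θ (1, zed m)).1 = 1 := by
    rw [ez]
    show a.1 * b.1 * a.1⁻¹ * b.1⁻¹ = 1
    rw [hA.comm a.1 b.1, mul_inv_cancel_right, mul_inv_cancel]
  have hne : θ (1, zed m) ≠ 1 := fun h =>
    zed_ne_one hm (congrArg Prod.snd (hθi (h.trans (map_one θ).symm)))
  have hcen : Cen (θ (1, zed m)) := fun q => by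
    obtain ⟨q, rfl⟩ := Finite.injective_iff_surjective.1 hθi q
    rw [← map_mul, ← map_mul, cen_A_zed hA hm 1 (Or.inr rfl)]
  rcases cen_four_cases hm hcen with h | h
  · exact absurd (Prod.ext e1 h) hne
  · exact Prod.ext e1 h

/-- The action on the four-group factor, modulo the dihedral factor. -/
theorem exists_gamma (hA : IsFourType A) (hm : 4 ∣ m) {k : G}
    (hk : k ∈ normalizer ((S : Subgroup G) : Set G)) :
    ∃ (γ : A →* A) (δ : A →* DihedralGroup m), (∀ a, δ a = 1 ∨ δ a = zed m) ∧
      ∀ a, k * D.f (a, 1) * k⁻¹ = D.f (γ a, δ a) := by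
  obtain ⟨θ, hθi, hθ⟩ := D.exists_action hk
  refine ⟨((MonoidHom.fst A (DihedralGroup m)).comp θ).comp (MonoidHom.inl A (DihedralGroup m)),
    ((MonoidHom.snd A (DihedralGroup m)).comp θ).comp (MonoidHom.inl A (DihedralGroup m)), ?_, ?_⟩
  · intro a
    refine cen_four_cases hm (p := θ (a, 1)) fun q => ?_
    obtain ⟨q, rfl⟩ := Finite.injective_iff_surjective.1 hθi q
    rw [← map_mul, ← map_mul, cen_A_zed hA hm a (Or.inl rfl)]
  · intro a
    exact (hθ (a, 1)).symm

/-- An element of the normalizer fixing an involution modulo `⟨z⟩` fixes the four-group. -/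
theorem fixed_all (hA : IsFourType A) (hm : 4 ∣ m) {k : G}
    (hk : k ∈ normalizer ((S : Subgroup G) : Set G)) {γ : A →* A} {δ : A →* DihedralGroup m}
    (hδ : ∀ a, δ a = 1 ∨ δ a = zed m) (hγ : ∀ a, k * D.f (a, 1) * k⁻¹ = D.f (γ a, δ a))
    {v : A} (hv : v ≠ 1) (hfix : γ v = v) : ∀ w, γ w = w ∧ δ w = 1 := by
  have hz := fix_zed (D := D) hA hm hk
  have hzz : ∀ a, δ a * δ a = 1 := fun a => by
    rcases hδ a with h | h <;> rw [h]
    · exact one_mul 1
    · exact zed_sq hm
  have hf : ∀ e, (e = 1 ∨ e = zed m) → k * D.f (1, e) * k⁻¹ = D.f (1, e) := by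
    rintro e (rfl | rfl)
    · rw [Prod.mk_one_one, map_one, mul_one, mul_inv_cancel]
    · exact hz
  have hcenA : ∀ a : A, D.f (a, 1) ∈ centralizer ((S : Subgroup G) : Set G) := fun a =>
    D.central_mem_centralizer (cen_A_zed hA hm a (Or.inl rfl))
  have base : ∀ a, γ a = a → δ a = 1 := fun a ha => by
    have h1 : D.f (1, δ a) = 1 := by
      refine eq_one_of_translate hk (hcenA a) ?_ ?_ (hf _ (hδ a))
      · rw [← map_mul]; simp [hzz a, Prod.mk_one_one]
      · rw [hγ, ha, ← map_mul]; simp
    exact congrArg Prod.snd (D.eq_one h1)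
  intro w
  suffices hw : γ w = w from ⟨hw, base w hw⟩
  rcases eq_or_ne w 1 with rfl | hw1
  · exact map_one γ
  rcases eq_or_ne w v with rfl | hwv
  · exact hfix
  have hγinj : ∀ a, γ a = 1 → a = 1 := fun a ha => by
    have h1 : k * D.f (a, 1) * k⁻¹ = k * D.f (1, δ a) * k⁻¹ := by rw [hγ, ha, hf _ (hδ a)]
    exact congrArg Prod.fst (D.inj ((MulAut.conj k).injective h1))
  rcases hA.cases hw1 hv hwv (γ w) with h | h | h | h
  · exact absurd (hγinj w h) hw1
  · exact h
  · refine absurd (hγinj (w * v) ?_) fun e => hwv ?_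
    · rw [map_mul, h, hfix, hA.sq]
    · rw [mul_eq_one_iff_eq_inv, inv_eq_of_mul_eq_one_right (hA.sq v)] at e
      exact e
  · exfalso
    have h1 : D.f (v, δ w) = 1 := by
      refine eq_one_of_translate hk (hcenA w) ?_ ?_ ?_
      · rw [← map_mul]; simp [hA.sq v, hzz w, Prod.mk_one_one]
      · rw [hγ, h, ← map_mul]; simp
      · rw [show ((v, δ w) : A × DihedralGroup m) = (v, 1) * (1, δ w) by simp, map_mul,
          show k * (D.f (v, 1) * D.f (1, δ w)) * k⁻¹ =
            k * D.f (v, 1) * k⁻¹ * (k * D.f (1, δ w) * k⁻¹) by group, hγ, hfix, base v hfix,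
          hf _ (hδ w)]
    exact hv (congrArg Prod.fst (D.eq_one h1))

/-- A generator for the action on the four-group, together with an invariant complement. -/
theorem exists_rotating (hA : IsFourType A) (hm : 4 ∣ m) (hG : ∀ N : Subgroup G, N.index ≠ 2)
    (D : Pr S A (DihedralGroup m)) :
    ∃ (D' : Pr S A (DihedralGroup m)) (k : G) (γ : A →* A),
      k ∈ normalizer ((S : Subgroup G) : Set G) ∧ (∀ a, γ a = a → a = 1) ∧
        ∀ a, k * D'.f (a, 1) * k⁻¹ = D'.f (γ a, 1) := by
  haveI : Nontrivial A := Finite.one_lt_card_iff_nontrivial.1 (by rw [hA.card]; norm_num)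
  obtain ⟨v, hv⟩ := exists_ne (1 : A)
  obtain ⟨w, hw, hwv⟩ : ∃ w : A, w ≠ 1 ∧ w ≠ v := by
    classical
    by_contra hc
    push Not at hc
    haveI := Fintype.ofFinite A
    have h := hA.card
    rw [Nat.card_eq_fintype_card] at h
    have hle : (Finset.univ : Finset A).card ≤ ({1, v} : Finset A).card :=
      Finset.card_le_card fun x _ => by
        rcases eq_or_ne x 1 with rfl | hx
        · simp
        · simp [hc x hx]
    rw [Finset.card_univ, h] at hle
    exact absurd (hle.trans Finset.card_le_two) (by norm_num)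
  -- a homomorphism not killing `v`
  have hidx : (zpowers w).index = 2 := by
    have := card_mul_index (zpowers w)
    rw [Nat.card_zpowers, orderOf_eq_prime (by rw [sq, hA.sq]) hw, hA.card] at this
    omega
  let l : A →* Multiplicative (ZMod 2) :=
    MonoidHom.mk' (fun a => open Classical in if a ∈ zpowers w then 1 else Multiplicative.ofAdd 1)
      (fun a b => by
        have := mul_mem_iff_of_index_two hidx (a := a) (b := b)
        by_cases ha : a ∈ zpowers w <;> by_cases hb : b ∈ zpowers w <;> simp [ha, hb] at this ⊢ <;>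
          simp [this] <;> decide)
  have hlv : l v ≠ 1 := by
    have hmem : v ∉ zpowers w := fun h => by
      obtain ⟨i, hi⟩ := mem_zpowers_iff.1 h
      rcases Int.even_or_odd i with ⟨c, rfl⟩ | ⟨c, rfl⟩
      · rw [zpow_add, hA.sq (w ^ c)] at hi
        exact hv hi.symm
      · rw [two_mul, zpow_add, zpow_add, hA.sq (w ^ c), one_mul, zpow_one] at hi
        exact hwv hi
    show (if _ then _ else _) ≠ (1 : Multiplicative (ZMod 2))
    rw [if_neg hmem]
    decide
  obtain ⟨k, ⟨u1, u2⟩, hu, hku, hkS⟩ := D.exists_transfer hG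
    (l.comp (MonoidHom.fst A (DihedralGroup m))) (fun y => by
      rcases (by decide : ∀ y : Multiplicative (ZMod 2), y = 1 ∨ y = Multiplicative.ofAdd 1) y with
        rfl | rfl
      · exact ⟨1, map_one _⟩
      · exact ⟨(v, 1), ((by decide : ∀ y : Multiplicative (ZMod 2), y = 1 ∨
          y = Multiplicative.ofAdd 1) _).resolve_left hlv⟩)
    (x := (v, 1)) (by simp [hA.sq, Prod.mk_one_one]) (fun h => hv (congrArg Prod.fst h))
  have hk := D.mem_normalizer_of_forall fun p => hkS p (cen_A_zed hA hm v (Or.inl rfl) p).symm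
  obtain ⟨γ, δ, hδ, hγ⟩ := exists_gamma (D := D) hA hm hk
  have hfix : ∀ a, γ a = a → a = 1 := by
    intro a ha
    by_contra ha1
    have h1 := (fixed_all hA hm hk hδ hγ ha1 ha v).1
    have h2 : γ v = u1 := congrArg Prod.fst (D.inj ((hγ v).symm.trans hku))
    rw [MonoidHom.comp_apply, MonoidHom.coe_fst] at hu
    exact hlv (by rw [← h1, h2]; exact hu)
  let h : A →* A := MonoidHom.mk' (fun a => γ a * a) fun a b => by
    rw [map_mul, mul_assoc, ← mul_assoc (γ b), hA.comm (γ b) a]
    simp only [mul_assoc]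
  have hinj : Function.Injective h := (injective_iff_map_eq_one h).2 fun a ha => hfix a (by
    have h1 : γ a * a = 1 := ha
    rwa [mul_eq_one_iff_eq_inv, inv_eq_of_mul_eq_one_right (hA.sq a)] at h1)
  let e : A ≃* A := MulEquiv.ofBijective h ⟨hinj, Finite.injective_iff_surjective.1 hinj⟩
  let φ : A →* DihedralGroup m := δ.comp e.symm.toMonoidHom
  have hφ : ∀ a, φ a = 1 ∨ φ a = zed m := fun a => hδ _
  have hφc : ∀ a b, φ a * b = b * φ a := fun a b => by
    rcases hφ a with h' | h' <;> rw [h']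
    · simp
    · exact zed_comm hm b
  refine ⟨D.twist φ 1 hφc (fun b a => by simp) (fun b => by simp), k, γ, hk, hfix, fun a => ?_⟩
  obtain ⟨c, rfl⟩ := e.surjective a
  simp only [twist_f, MonoidHom.one_apply, mul_one]
  have hec : e c = γ c * c := rfl
  have hsym : e.symm (e c) = c := e.symm_apply_apply c
  have hsym2 : e.symm (γ (e c)) = γ c := by
    rw [MulEquiv.symm_apply_eq, hec, map_mul]
    rfl
  show k * D.f (e c, δ (e.symm (e c))) * k⁻¹ = D.f (γ (e c), δ (e.symm (γ (e c))))
  have hfz : k * D.f (1, δ c) * k⁻¹ = D.f (1, δ c) := by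
    rcases hδ c with h' | h' <;> rw [h']
    · rw [Prod.mk_one_one, map_one, mul_one, mul_inv_cancel]
    · exact fix_zed hA hm hk
  rw [hsym, hsym2, hec, show ((γ c * c, δ c) : A × DihedralGroup m) = (γ c, 1) * (c, 1) * (1, δ c) by
      simp, map_mul, map_mul,
    show k * (D.f (γ c, 1) * D.f (c, 1) * D.f (1, δ c)) * k⁻¹ =
      k * D.f (γ c, 1) * k⁻¹ * (k * D.f (c, 1) * k⁻¹) * (k * D.f (1, δ c) * k⁻¹) by group,
    hγ, hγ, hfz, ← map_mul, ← map_mul]
  congr 1
  refine Prod.ext ?_ ?_
  · simp [map_mul]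
  · show δ (γ c) * δ c * δ c = δ (γ c)
    rcases hδ c with h' | h' <;> rw [h', mul_assoc]
    · simp
    · rw [zed_sq hm, mul_one]

end Pr

end Cfsg.Agent.Lib.DihedralPair
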