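import Mathlib
import Cfsg.Agent.Lib.DihedralPair.Four

/-!
# A four-group factor and a dihedral factor of order at least eight: classes of involutions

Owner: helper78.
-/

set_option autoImplicit false
set_option linter.style.haveILetI false
set_option linter.unusedSectionVars false

open Subgroup DihedralGroup
open Cfsg.Agent.Lib.Fusion.Dihedral (par)

namespace Cfsg.Agent.Lib.DihedralPair

universe u v

variable {G : Type u} [Group G] [Finite G] {S : Sylow 2 G} {m : ℕ} [NeZero m]
  {A : Type v} [Group A] [Finite A] {D : Pr S A (DihedralGroup m)}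

namespace Pr

/-- The normalizer permutes the four-group factor without fixed points. -/
structure Rot (D : Pr S A (DihedralGroup m)) (k : G) (γ : A →* A) : Prop where
  mem : k ∈ normalizer ((S : Subgroup G) : Set G)
  free : ∀ a, γ a = a → a = 1
  act : ∀ a, k * D.f (a, 1) * k⁻¹ = D.f (γ a, 1)

variable {k : G} {γ : A →* A}

theorem Rot.inj (h : Rot D k γ) {a : A} (ha : γ a = 1) : a = 1 := by
  have h1 := h.act a
  rw [ha, Prod.mk_one_one, map_one, conj_eq_one_iff] at h1
  exact congrArg Prod.fst (D.eq_one h1)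

theorem Rot.two (hA : IsFourType A) (h : Rot D k γ) (v : A) : γ (γ v) = γ v * v := by
  rcases eq_or_ne v 1 with rfl | hv
  · simp
  have h1 : γ v ≠ 1 := fun e => hv (h.inj e)
  have h2 : γ v ≠ v := fun e => hv (h.free v e)
  rcases hA.cases h1 hv h2 (γ (γ v)) with e | e | e | e
  · exact absurd (h.inj e) h1
  · exact absurd (h.free _ e) h1
  · refine absurd (h.free (γ v * v) ?_) fun e' => h2 ?_
    · rw [map_mul, e, hA.comm]
    · rw [mul_eq_one_iff_eq_inv, inv_eq_of_mul_eq_one_right (hA.sq v)] at e'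
      exact e'
  · exact e

theorem Rot.orbit (hA : IsFourType A) (h : Rot D k γ) {v w : A} (hv : v ≠ 1) (hw : w ≠ 1) :
    w = v ∨ w = γ v ∨ w = γ (γ v) := by
  have h1 : γ v ≠ 1 := fun e => hv (h.inj e)
  have h2 : γ v ≠ v := fun e => hv (h.free v e)
  rcases hA.cases h1 hv h2 w with e | e | e | e
  · exact absurd e hw
  · exact Or.inr (Or.inl e)
  · exact Or.inl e
  · exact Or.inr (Or.inr (e.trans (h.two hA v).symm))

theorem Rot.three (hA : IsFourType A) (h : Rot D k γ) (v : A) : γ (γ (γ v)) = v := by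
  rw [h.two hA v, map_mul, h.two hA v, mul_assoc, hA.comm v (γ v), ← mul_assoc, hA.sq, one_mul]

theorem Rot.rel_central (hA : IsFourType A) (hm : 4 ∣ m) (h : Rot D k γ) {v w : A} (hv : v ≠ 1)
    (hw : w ≠ 1) {e : DihedralGroup m} (he : e = 1 ∨ e = zed m) : D.Rel (v, e) (w, e) := by
  have hstep : ∀ a, D.Rel (a, e) (γ a, e) := fun a => by
    refine D.rel_of (g := k) ?_
    have hz : k * D.f (1, e) * k⁻¹ = D.f (1, e) := by
      rcases he with rfl | rfl
      · rw [Prod.mk_one_one, map_one, mul_one, mul_inv_cancel]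
      · exact fix_zed hA hm h.mem
    rw [show ((a, e) : A × DihedralGroup m) = (a, 1) * (1, e) by simp, map_mul,
      show k * (D.f (a, 1) * D.f (1, e)) * k⁻¹ = k * D.f (a, 1) * k⁻¹ * (k * D.f (1, e) * k⁻¹) by
        group, h.act, hz, ← map_mul]
    simp
  rcases h.orbit hA hv hw with rfl | rfl | rfl
  · exact IsConj.refl _
  · exact hstep v
  · exact (hstep v).trans (hstep _)

theorem not_rel_zed (hA : IsFourType A) (hm : 4 ∣ m) {v : A} (hv : v ≠ 1) {e : DihedralGroup m}
    (he : e = 1 ∨ e = zed m) : ¬ D.Rel (v, e) (1, zed m) := fun hr => by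
  obtain ⟨g, hg⟩ := isConj_iff.1 hr.symm
  obtain ⟨n, hn, en⟩ := D.exists_normalizer_conj (cen_A_zed hA hm 1 (Or.inr rfl))
    (cen_A_zed hA hm v he) hg
  rw [fix_zed hA hm hn] at en
  exact hv (congrArg Prod.fst (D.inj en)).symm

theorem Rot.not_rel_mixed (hA : IsFourType A) (hm : 4 ∣ m) (h : Rot D k γ) {v w : A} (hv : v ≠ 1)
    (hw : w ≠ 1) : ¬ D.Rel (v, 1) (w, zed m) := fun hr => by
  obtain ⟨g, hg⟩ := isConj_iff.1 (hr.trans (h.rel_central hA hm hw hv (Or.inr rfl)))
  obtain ⟨n, hn, en⟩ := D.exists_normalizer_conj (cen_A_zed hA hm v (Or.inl rfl))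
    (cen_A_zed hA hm v (Or.inr rfl)) hg
  refine zed_ne_one hm (congrArg Prod.snd (D.eq_one (eq_one_of_translate hn
    (D.central_mem_centralizer (cen_A_zed hA hm v (Or.inl rfl))) ?_ ?_ (fix_zed hA hm hn))))
  · rw [← map_mul]; simp [zed_sq hm, Prod.mk_one_one]
  · rw [en, ← map_mul]; simp

/-- An element of the normalizer acting on the coset of a reflection. -/
theorem Rot.exists_coset (hA : IsFourType A) (hm : 4 ∣ m) (h : Rot D k γ) (i : ZMod m) :
    ∃ (n : G) (c : A), n * D.f (1, sr i) * n⁻¹ = D.f (c, sr i) ∧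
      ∀ a, n * D.f (a, 1) * n⁻¹ = D.f (γ (γ a), 1) := by
  obtain ⟨θ, hθi, hθ⟩ := D.exists_action h.mem
  have hrefl : ∀ j : ZMod m, ∃ (c : A) (l : ZMod m), θ (1, sr j) = (c, sr l) := by
    intro j
    have hsq : θ (1, sr j) * θ (1, sr j) = 1 := by rw [← map_mul]; simp [Prod.mk_one_one]
    have hnc : ¬ ∀ w, (θ (1, sr j)).2 * w = w * (θ (1, sr j)).2 := fun hc => by
      have hcen : Cen ((1, sr j) : A × DihedralGroup m) := fun q => hθi (by
        rw [map_mul, map_mul]
        exact Prod.ext (hA.comm _ _) (hc _))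
      rcases cen_four_cases hm hcen with e | e
      · exact sr_ne_one j e
      · exact sr_ne_zed j e
    rcases eq_or_ne (θ (1, sr j)).2 1 with e | e
    · exact absurd (fun w => by simp [e]) hnc
    · rcases involution_cases (congrArg Prod.snd hsq) e with e' | ⟨l, e'⟩
      · exact absurd (fun w => by rw [e']; exact zed_comm hm w) hnc
      · exact ⟨_, l, Prod.ext rfl e'⟩
  choose c σ hσ using hrefl
  have hpar : ∀ i j, (par (two_dvd hm) (σ i) = par (two_dvd hm) (σ j) ↔
      par (two_dvd hm) i = par (two_dvd hm) j) := by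
    intro i j
    have h1 : θ (1, r (j - i)) = (c i * c j, r (σ j - σ i)) := by
      rw [show ((1, r (j - i)) : A × DihedralGroup m) = (1, sr i) * (1, sr j) by simp, map_mul,
        hσ, hσ]
      simp
    have heven : Even (m / 2) := by obtain ⟨t, rfl⟩ := hm; exact ⟨t, by omega⟩
    have hA' : ∀ a : A, a ^ (m / 2) = 1 := fun a => by
      obtain ⟨t, ht⟩ := heven
      rw [ht, pow_add, hA.sq]
    have h2 : (r (j - i) : DihedralGroup m) ^ (m / 2) = 1 ↔
        (r (σ j - σ i) : DihedralGroup m) ^ (m / 2) = 1 := by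
      constructor
      · intro e
        have := congrArg (fun p => p ^ (m / 2)) h1
        simp only [← map_pow] at this
        rw [show ((1, r (j - i)) : A × DihedralGroup m) ^ (m / 2) = 1 from
          Prod.ext (one_pow _) e, map_one] at this
        exact (congrArg Prod.snd this).symm
      · intro e
        have := congrArg (fun p => p ^ (m / 2)) h1
        simp only [← map_pow] at this
        rw [show ((c i * c j, r (σ j - σ i)) : A × DihedralGroup m) ^ (m / 2) = 1 from
          Prod.ext (hA' _) e] at this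
        exact congrArg Prod.snd (hθi (this.trans (map_one θ).symm))
    rw [pow_half_r (two_dvd hm), pow_half_r (two_dvd hm), map_sub, map_sub, sub_eq_zero,
      sub_eq_zero] at h2
    exact ⟨fun e => (h2.2 e.symm).symm, fun e => (h2.1 e.symm).symm⟩
  have h2 : par (two_dvd hm) i = par (two_dvd hm) (σ (σ i)) :=
    (by decide : ∀ a b c : ZMod 2, (b = c ↔ a = b) → a = c) _ _ _ (hpar i (σ i))
  obtain ⟨w, hw⟩ := exists_conj_sr (two_dvd hm) h2
  have hθθ : θ (θ (1, sr i)) = (γ (γ 1) * (γ (c i) * c (σ i)), sr (σ (σ i))) := by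
    have hγ : ∀ a, θ (a, 1) = (γ a, 1) := fun a => D.inj ((hθ _).trans (h.act a))
    rw [hσ, show ((c i, sr (σ i)) : A × DihedralGroup m) = (c i, 1) * (1, sr (σ i)) by simp,
      map_mul, hγ, hσ]
    simp
  refine ⟨D.f (1, w) * k * k, γ (c i) * c (σ i), ?_, fun a => ?_⟩
  · rw [show D.f (1, w) * k * k * D.f (1, sr i) * (D.f (1, w) * k * k)⁻¹ =
      D.f (1, w) * (k * (k * D.f (1, sr i) * k⁻¹) * k⁻¹) * (D.f (1, w))⁻¹ by group, ← hθ, ← hθ, hθθ,
      ← map_inv, ← map_mul, ← map_mul]
    congr 1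
    simp [hw]
  · rw [show D.f (1, w) * k * k * D.f (a, 1) * (D.f (1, w) * k * k)⁻¹ =
      D.f (1, w) * (k * (k * D.f (a, 1) * k⁻¹) * k⁻¹) * (D.f (1, w))⁻¹ by group, h.act, h.act,
      ← map_inv, ← map_mul, ← map_mul]
    simp

theorem card_centralizer_sr (hm : 4 ∣ m) (i : ZMod m) :
    Nat.card {e : DihedralGroup m // e = 1 ∨ e = zed m ∨ e = sr i ∨ e = zed m * sr i} = 4 := by
  classical
  rw [Nat.card_eq_fintype_card, Fintype.card_of_subtype
    ({1, zed m, sr i, zed m * sr i} : Finset (DihedralGroup m)) (by simp)]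
  have h1 : zed m * sr i ≠ sr i := fun e => zed_ne_one hm (mul_eq_right.1 e)
  have h2 : zed m * sr i ≠ zed m := fun e => sr_ne_one i (mul_eq_left.1 e)
  have h3 : zed m * sr i ≠ 1 := by rw [zed_mul_sr hm]; exact sr_ne_one _
  rw [Finset.card_insert_of_notMem (by
      simp [(zed_ne_one hm).symm, (sr_ne_one i).symm, h3.symm]),
    Finset.card_insert_of_notMem (by simp [(sr_ne_zed i).symm, h2.symm]),
    Finset.card_insert_of_notMem (by simp [h1.symm]), Finset.card_singleton]

/-- The transfer element for a reflection covers all central elements. -/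
theorem exists_cover (hA : IsFourType A) (hm : 4 ∣ m) {g : G} {i : ZMod m}
    (hg : ∀ p : A × DihedralGroup m, p.2 * sr i = sr i * p.2 → g * D.f p * g⁻¹ ∈ (S : Subgroup G))
    (q : A × DihedralGroup m) (hq : q.2 = 1 ∨ q.2 = zed m) :
    ∃ p : A × DihedralGroup m, (p.2 = 1 ∨ p.2 = zed m ∨ p.2 = sr i ∨ p.2 = zed m * sr i) ∧
      g * D.f p * g⁻¹ = D.f q := by
  classical
  set Q : ZMod m → DihedralGroup m → Prop := fun j e =>
    e = 1 ∨ e = zed m ∨ e = sr j ∨ e = zed m * sr j
  have hc : ∀ j e, Q j e → e * sr j = sr j * e := by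
    rintro j e (rfl | rfl | rfl | rfl)
    · simp
    · exact zed_comm hm _
    · rfl
    · rw [mul_assoc, ← mul_assoc (sr j), ← zed_comm hm, mul_assoc]
  have himg : ∀ p : A × {e // Q i e}, ∃ r, D.f r = g * D.f (p.1, p.2.1) * g⁻¹ := fun p =>
    D.exists_eq (hg _ (hc _ _ p.2.2))
  choose F hF using himg
  have hinj : Function.Injective F := fun p p' e => by
    have h1 := congrArg D.f e
    rw [hF, hF] at h1
    have h2 := D.inj ((MulAut.conj g).injective h1)
    rw [Prod.mk.injEq] at h2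
    exact Prod.ext h2.1 (Subtype.ext h2.2)
  have hsq : ∀ p, F p * F p = 1 := fun p => D.eq_one (by
    rw [map_mul, hF, show g * D.f (p.1, p.2.1) * g⁻¹ * (g * D.f (p.1, p.2.1) * g⁻¹) =
      g * (D.f (p.1, p.2.1) * D.f (p.1, p.2.1)) * g⁻¹ by group, ← map_mul]
    rcases p.2.2 with e | e | e | e <;>
      simp [e, hA.sq, zed_sq hm, Prod.mk_one_one, zed_mul_sr hm])
  have hcomm : ∀ p p', F p * F p' = F p' * F p := fun p p' => by
    have hh : ((p.1, p.2.1) : A × DihedralGroup m) * (p'.1, p'.2.1) =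
        (p'.1, p'.2.1) * (p.1, p.2.1) := by
      refine Prod.ext (hA.comm _ _) ?_
      show p.2.1 * p'.2.1 = p'.2.1 * p.2.1
      have hzs : Commute (zed m) (sr i) := zed_comm hm _
      rcases p.2.2 with e | e | e | e <;> rcases p'.2.2 with e' | e' | e' | e' <;> rw [e, e']
      all_goals first
        | simp
        | exact hzs.eq
        | exact hzs.symm.eq
        | exact ((Commute.refl (zed m)).mul_right hzs).eq
        | exact ((Commute.refl (zed m)).mul_left hzs.symm).eq
        | exact (hzs.symm.mul_right (Commute.refl _)).eq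
        | exact (hzs.mul_left (Commute.refl _)).eq
    refine D.inj ?_
    rw [map_mul, map_mul, hF, hF, show ∀ a b : G, g * a * g⁻¹ * (g * b * g⁻¹) = g * (a * b) * g⁻¹
      from fun a b => by group, ← map_mul, hh, map_mul]
    group
  haveI := Fintype.ofFinite A
  have hcard : ∀ j, Nat.card (A × {e // Q j e}) = 16 := fun j => by
    rw [Nat.card_prod, hA.card, card_centralizer_sr hm]
  obtain ⟨p₁, j, hj⟩ : ∃ p j, (F p).2 = sr j := by
    by_contra hno
    push Not at hno
    have hz : ∀ p, (F p).2 = 1 ∨ (F p).2 = zed m := fun p => by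
      rcases eq_or_ne (F p).2 1 with e | e
      · exact Or.inl e
      · rcases involution_cases (congrArg Prod.snd (hsq p)) e with e' | ⟨l, e'⟩
        · exact Or.inr e'
        · exact absurd e' (hno p l)
    let F' : A × {e // Q i e} → A × Bool := fun p => ((F p).1, decide ((F p).2 = 1))
    have hF' : Function.Injective F' := fun p p' e => hinj (by
      obtain ⟨e1, e2⟩ : (F p).1 = (F p').1 ∧ decide ((F p).2 = 1) = decide ((F p').2 = 1) :=
        Prod.mk.inj e
      refine Prod.ext e1 ?_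
      rcases hz p with h1 | h1 <;> rcases hz p' with h2 | h2 <;> rw [h1, h2] <;>
        simp [h1, h2, zed_ne_one hm] at e2)
    have := Nat.card_le_card_of_injective F' hF'
    rw [hcard, Nat.card_prod, hA.card, Nat.card_eq_fintype_card, Fintype.card_bool] at this
    norm_num at this
  have hmemj : ∀ p, Q j (F p).2 := fun p => by
    have := congrArg Prod.snd (hcomm p p₁)
    simp only [Prod.snd_mul, hj] at this
    exact comm_sr_cases this
  let F'' : A × {e // Q i e} → A × {e // Q j e} := fun p => ((F p).1, ⟨(F p).2, hmemj p⟩)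
  have hF'' : Function.Injective F'' := fun p p' e => by
    obtain ⟨e1, e2⟩ := Prod.mk.inj (e : ((F p).1, (⟨(F p).2, hmemj p⟩ : {e // Q j e})) = _)
    exact hinj (Prod.ext e1 (congrArg Subtype.val e2))
  haveI : Fintype (A × {e // Q i e}) := Fintype.ofFinite _
  haveI : Fintype (A × {e // Q j e}) := Fintype.ofFinite _
  have hsurj : Function.Surjective F'' :=
    ((Fintype.bijective_iff_injective_and_card F'').2 ⟨hF'', by
      rw [← Nat.card_eq_fintype_card, ← Nat.card_eq_fintype_card, hcard, hcard]⟩).2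
  obtain ⟨p, hp⟩ := hsurj (q.1, ⟨q.2, hq.elim Or.inl fun e => Or.inr (Or.inl e)⟩)
  refine ⟨(p.1, p.2.1), p.2.2, ?_⟩
  rw [← hF]
  exact congrArg D.f (Prod.ext (congrArg Prod.fst hp :) (congrArg (fun x => x.2.1) hp))

/-- The class data of the coset of a reflection. -/
def Coset (D : Pr S A (DihedralGroup m)) (i : ZMod m) (v : A) : Prop :=
  (∃ g : G, g * D.f (v, sr i) * g⁻¹ = D.f (1, zed m) ∧
      ∀ a, g * D.f (a, 1) * g⁻¹ ∈ (S : Subgroup G)) ∧
    ∀ u w : A, u ≠ 1 → w ≠ 1 → D.Rel (v * u, sr i) (w, zed m)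

theorem rel_zed_mul_sr (hm : 4 ∣ m) (v : A) (i : ZMod m) :
    D.Rel (v, sr i) (v, zed m * sr i) := by
  have e : ((v, zed m * sr i) : A × DihedralGroup m) = (1, quarter m) * (v, sr i) * (1, quarter m)⁻¹ := by
    simp [quarter_conj_sr hm]
  rw [e]
  exact D.rel_inner _ _

theorem Rot.exists_coset_classes (hA : IsFourType A) (hm : 4 ∣ m)
    (hG : ∀ N : Subgroup G, N.index ≠ 2) (h : Rot D k γ) (i : ZMod m) : ∃ v, Coset D i v := by
  classical
  obtain ⟨n, c, hnc, hna⟩ := h.exists_coset hA hm i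
  -- the fixed point of the affine action
  let h2 : A → A := fun a => γ (γ a) * a
  have h2i : Function.Injective h2 := fun a b e => by
    have e' : γ (γ a) * a = γ (γ b) * b := e
    rw [h.two hA a, h.two hA b, mul_assoc, hA.sq, mul_one, mul_assoc, hA.sq, mul_one] at e'
    have h1 : γ (a * b) = 1 := by rw [map_mul, e', hA.sq]
    have := h.inj h1
    rw [mul_eq_one_iff_eq_inv, inv_eq_of_mul_eq_one_right (hA.sq b)] at this
    exact this
  obtain ⟨v, hv⟩ := Finite.injective_iff_surjective.1 h2i c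
  have hstep : ∀ u : A, D.Rel (v * u, sr i) (v * γ (γ u), sr i) := fun u => by
    refine D.rel_of (g := n) ?_
    rw [show ((v * u, sr i) : A × DihedralGroup m) = (v * u, 1) * (1, sr i) by simp, map_mul,
      show n * (D.f (v * u, 1) * D.f (1, sr i)) * n⁻¹ =
        n * D.f (v * u, 1) * n⁻¹ * (n * D.f (1, sr i) * n⁻¹) by group, hna, hnc, ← map_mul]
    congr 1
    refine Prod.ext ?_ (by simp)
    show γ (γ (v * u)) * c = v * γ (γ u)
    rw [← hv, map_mul, map_mul, hA.comm (γ (γ v)) (γ (γ u)), mul_assoc, ← mul_assoc (γ (γ v)),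
      hA.sq, one_mul, hA.comm]
  have hK : ∀ u w : A, u ≠ 1 → w ≠ 1 → D.Rel (v * u, sr i) (v * w, sr i) := by
    intro u w hu hw
    rcases h.orbit hA hu hw with rfl | rfl | rfl
    · exact IsConj.refl _
    · refine (hstep u).trans ?_
      have := hstep (γ (γ u))
      rwa [h.three hA] at this
    · exact hstep u
  -- transfer
  set o : Multiplicative (ZMod 2) := Multiplicative.ofAdd 1
  have ho : o * o = 1 := by decide
  obtain ⟨g, ⟨u1, u2⟩, hu, hgu, hgS⟩ := D.exists_transfer hG
    ((chi (two_dvd hm) 1 o (one_mul 1) ho (by simp)).comp (MonoidHom.snd A (DihedralGroup m)))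
    (fun y => by
      rcases (by decide : ∀ y : Multiplicative (ZMod 2), y = 1 ∨ y = Multiplicative.ofAdd 1) y with
        rfl | rfl
      · exact ⟨1, map_one _⟩
      · exact ⟨(1, sr 0), by simp [chi_sr, o]⟩)
    (x := (v, sr i)) (by simp [hA.sq, Prod.mk_one_one]) (fun e => sr_ne_one i (congrArg Prod.snd e))
  have hg : ∀ p : A × DihedralGroup m, p.2 * sr i = sr i * p.2 →
      g * D.f p * g⁻¹ ∈ (S : Subgroup G) := fun p hp => hgS p (Prod.ext (hA.comm _ _) hp)
  have husq : ((u1, u2) : A × DihedralGroup m) * (u1, u2) = 1 := D.eq_one (by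
    rw [map_mul, ← hgu, show g * D.f (v, sr i) * g⁻¹ * (g * D.f (v, sr i) * g⁻¹) =
      g * (D.f (v, sr i) * D.f (v, sr i)) * g⁻¹ by group, ← map_mul]
    simp [hA.sq, Prod.mk_one_one])
  have hu2 : u2 = 1 ∨ u2 = zed m := by
    rcases eq_or_ne u2 1 with e | e
    · exact Or.inl e
    · rcases involution_cases (congrArg Prod.snd husq) e with e' | ⟨j, rfl⟩
      · exact Or.inr e'
      · exact absurd hu (by simp [chi_sr, o])
  have hune : ((u1, u2) : A × DihedralGroup m) ≠ 1 := fun e => by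
    rw [e, map_one, conj_eq_one_iff] at hgu
    exact sr_ne_one i (congrArg Prod.snd (D.eq_one hgu))
  obtain ⟨β, hβ2, hβ⟩ := exists_cover hA hm hg (1, zed m) (Or.inr rfl)
  -- central and noncentral preimages
  have hprod : ∀ p p' q q' : A × DihedralGroup m, g * D.f p * g⁻¹ = D.f q →
      g * D.f p' * g⁻¹ = D.f q' → g * D.f (p * p') * g⁻¹ = D.f (q * q') := fun p p' q q' e e' => by
    rw [map_mul, map_mul, ← e, ← e']; group
  have hrefl : ∀ {a : A} {e : DihedralGroup m} {q : A × DihedralGroup m},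
      (e = sr i ∨ e = zed m * sr i) → g * D.f (a, e) * g⁻¹ = D.f q → D.Rel (a, sr i) q := by
    intro a e q he hq
    rcases he with rfl | rfl
    · exact D.rel_of hq
    · exact (rel_zed_mul_sr hm a i).trans (D.rel_of hq)
  have hcenA : ∀ {p : A × DihedralGroup m} {w : A}, (p.2 = 1 ∨ p.2 = zed m) → w ≠ 1 →
      g * D.f p * g⁻¹ = D.f (w, 1) → p.1 ≠ 1 ∧ p.2 = 1 := by
    rintro ⟨a, e⟩ w he hw hp
    have ha : a ≠ 1 := fun e0 => by
      subst e0
      rcases he with e1 | e1 <;> dsimp only at e1 <;> subst e1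
      · rw [Prod.mk_one_one, map_one, mul_one, mul_inv_cancel] at hp
        exact hw (congrArg Prod.fst (D.eq_one hp.symm))
      · exact not_rel_zed hA hm hw (Or.inl rfl) (D.rel_of hp).symm
    refine ⟨ha, he.resolve_right fun e1 => ?_⟩
    dsimp only at e1
    subst e1
    exact h.not_rel_mixed hA hm hw ha (D.rel_of hp).symm
  rcases (or_assoc.2 hβ2) with hβc | hβr
  · exfalso
    -- the second central involution is fixed: `x` and a conjugate of it get different classes
    obtain ⟨b1, b2⟩ := β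
    have hb1 : b1 = 1 := by
      by_contra e
      exact not_rel_zed hA hm e hβc (D.rel_of hβ)
    subst hb1
    have hb2 : b2 = zed m := hβc.resolve_left fun e => by
      simp only at e
      rw [e, Prod.mk_one_one, map_one, mul_one, mul_inv_cancel] at hβ
      exact zed_ne_one hm (congrArg Prod.snd (D.eq_one hβ.symm))
    subst hb2
    have hx := hprod _ _ _ _ hgu hβ
    rw [Prod.mk_mul_mk, Prod.mk_mul_mk, mul_one, mul_one] at hx
    have hu1 : u1 ≠ 1 := by
      rintro rfl
      rcases hu2 with rfl | rfl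
      · exact hune rfl
      · have := D.inj ((MulAut.conj g).injective (hgu.trans hβ.symm))
        exact sr_ne_zed i (congrArg Prod.snd this)
    have h1 : D.Rel (u1, u2) (u1, u2 * zed m) := by
      refine (D.rel_of hgu).symm.trans ((rel_zed_mul_sr hm v i).trans ?_)
      rw [zed_comm hm]
      exact D.rel_of hx
    rcases hu2 with rfl | rfl
    · rw [one_mul] at h1
      exact h.not_rel_mixed hA hm hu1 hu1 h1
    · rw [zed_sq hm] at h1
      exact h.not_rel_mixed hA hm hu1 hu1 h1.symm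
  obtain ⟨vb, eb⟩ := β
  have hb : D.Rel (vb, sr i) (1, zed m) := hrefl hβr hβ
  obtain ⟨w₀, hw₀⟩ : ∃ a : A, a ≠ 1 := by
    haveI : Nontrivial A := Finite.one_lt_card_iff_nontrivial.1 (by rw [hA.card]; norm_num)
    exact exists_ne 1
  by_cases hall : ∀ (w : A) (p : A × DihedralGroup m), w ≠ 1 →
      (p.2 = 1 ∨ p.2 = zed m ∨ p.2 = sr i ∨ p.2 = zed m * sr i) →
      g * D.f p * g⁻¹ = D.f (w, 1) → p.2 = 1 ∨ p.2 = zed m
  · -- all preimages are central
    have hchoice : ∀ w : A, ∃ a : A, g * D.f (a, 1) * g⁻¹ = D.f (w, 1) := fun w => by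
      rcases eq_or_ne w 1 with rfl | hw
      · exact ⟨1, by rw [Prod.mk_one_one, map_one, mul_one, mul_inv_cancel]⟩
      · obtain ⟨⟨a, e⟩, he, hp⟩ := exists_cover hA hm hg (w, 1) (Or.inl rfl)
        obtain ⟨-, h2⟩ := hcenA (hall w _ hw he hp) hw hp
        dsimp only at h2
        subst h2
        exact ⟨a, hp⟩
    choose τ hτ using hchoice
    have hτi : Function.Injective τ := fun a b e => by
      have := (hτ a).symm.trans (e ▸ hτ b)
      exact congrArg Prod.fst (D.inj this)
    have hc : ∀ u : A, u ≠ 1 → ∃ w, w ≠ 1 ∧ D.Rel (vb * u, sr i) (w, zed m) := fun u hu0 => by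
      obtain ⟨w, rfl⟩ := Finite.injective_iff_surjective.1 hτi u
      refine ⟨w, fun e => hu0 ?_, ?_⟩
      · subst e
        have h1 := hτ 1
        rw [Prod.mk_one_one, map_one, conj_eq_one_iff] at h1
        exact congrArg Prod.fst (D.eq_one h1)
      · refine hrefl hβr ?_
        have := hprod _ _ _ _ hβ (hτ w)
        simpa using this
    have hvb : vb = v := by
      by_contra hne
      have hu1 : vb * v ≠ 1 := fun e => hne (by
        rw [mul_eq_one_iff_eq_inv, inv_eq_of_mul_eq_one_right (hA.sq v)] at e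
        exact e)
      obtain ⟨u', hu', hu''⟩ : ∃ u', u' ≠ 1 ∧ u' ≠ vb * v :=
        ⟨γ (vb * v), fun e => hu1 (h.inj e), fun e => hu1 (h.free _ e)⟩
      obtain ⟨w, hw, hwc⟩ := hc u' hu'
      have hne' : v * vb * u' ≠ 1 := fun e => hu'' (by
        rw [mul_eq_one_iff_inv_eq, inv_eq_of_mul_eq_one_right (hA.sq (v * vb))] at e
        rw [← e, hA.comm])
      refine not_rel_zed hA hm hw (Or.inr rfl) ((hwc.symm.trans ?_).trans hb)
      have := hK (v * vb * u') (v * vb) hne' (by rwa [hA.comm])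
      rwa [show v * (v * vb * u') = vb * u' by rw [← mul_assoc, ← mul_assoc, hA.sq, one_mul],
        ← mul_assoc, hA.sq, one_mul] at this
    rw [hvb] at hb hc
    refine ⟨v, ⟨g, ?_, fun a => hg (a, 1) (by simp)⟩, fun u w hu0 hw0 => ?_⟩
    · rw [hgu]
      rcases eq_or_ne u1 1 with rfl | hne
      · rcases hu2 with rfl | rfl
        · exact absurd rfl hune
        · rfl
      · exact absurd ((D.rel_of hgu).symm.trans hb) (not_rel_zed hA hm hne hu2)
    · obtain ⟨w', hw', hc'⟩ := hc u hu0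
      exact hc'.trans (h.rel_central hA hm hw' hw0 (Or.inr rfl))
  · exfalso
    push Not at hall
    obtain ⟨w, ⟨va, ea⟩, hw, he, hp, hnc1, hnc2⟩ := hall
    have hea : ea = sr i ∨ ea = zed m * sr i :=
      ((or_assoc.2 he)).resolve_left (not_or.2 ⟨hnc1, hnc2⟩)
    -- some involution of the four-group has a central preimage
    obtain ⟨a', w', ha', hw', hp'⟩ : ∃ a' w' : A, a' ≠ 1 ∧ w' ≠ 1 ∧
        g * D.f (a', 1) * g⁻¹ = D.f (w', 1) := by
      obtain ⟨p', he', hp'⟩ := exists_cover hA hm hg (γ w, 1) (Or.inl rfl)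
      have hγw : γ w ≠ 1 := fun e => hw (h.inj e)
      rcases (or_assoc.2 he') with hc' | hr'
      · obtain ⟨h1, h2⟩ := hcenA hc' hγw hp'
        obtain ⟨a', e'⟩ := p'
        dsimp only at h1 h2
        subst h2
        exact ⟨a', γ w, h1, hγw, hp'⟩
      · have hpp := hprod _ _ _ _ hp hp'
        simp only [Prod.mk_mul_mk, one_mul] at hpp
        have hne : w * γ w ≠ 1 := fun e => hw (h.free w (by
          rw [mul_eq_one_iff_inv_eq, inv_eq_of_mul_eq_one_right (hA.sq w)] at e
          exact e.symm))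
        have hsnd : (((va, ea) : A × DihedralGroup m) * p').2 = 1 ∨
            (((va, ea) : A × DihedralGroup m) * p').2 = zed m := by
          show ea * p'.2 = 1 ∨ ea * p'.2 = zed m
          rcases hea with rfl | rfl <;> rcases hr' with e | e <;> rw [e]
          · exact Or.inl (sr_sq i)
          · exact Or.inr (by rw [zed_comm hm, ← mul_assoc, sr_sq, one_mul])
          · exact Or.inr (by rw [mul_assoc, sr_sq, mul_one])
          · left
            rw [mul_assoc, ← mul_assoc (sr i), ← zed_comm hm, mul_assoc, sr_sq, mul_one,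
              zed_sq hm]
        obtain ⟨h1, h2⟩ := hcenA hsnd hne hpp
        refine ⟨(((va, ea) : A × DihedralGroup m) * p').1, w * γ w, h1, hne, ?_⟩
        rw [show (((((va, ea) : A × DihedralGroup m) * p').1, 1) : A × DihedralGroup m) =
          (va, ea) * p' from Prod.ext rfl h2.symm]
        exact hpp
    have ha : D.Rel (va, sr i) (w, 1) := hrefl hea hp
    have hc : D.Rel (vb * a', sr i) (w', zed m) := hrefl hβr (by
      have := hprod _ _ _ _ hβ hp'
      simpa using this)
    have hK' : ∀ x y : A, x ≠ v → y ≠ v → D.Rel (x, sr i) (y, sr i) := fun x y hx hy => by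
      have hne : ∀ z : A, z ≠ v → v * z ≠ 1 := fun z hz e => hz (by
        rw [mul_eq_one_iff_inv_eq, inv_eq_of_mul_eq_one_right (hA.sq v)] at e
        exact e.symm)
      have := hK (v * x) (v * y) (hne x hx) (hne y hy)
      rwa [← mul_assoc, ← mul_assoc, hA.sq, one_mul, one_mul] at this
    rcases eq_or_ne vb v with hvb | hvb
    · have hva : va ≠ v := fun e => not_rel_zed hA hm hw (Or.inl rfl)
        (ha.symm.trans (by rw [e, ← hvb]; exact hb))
      have hvc : vb * a' ≠ v := fun e => ha' (mul_eq_left.1 (hvb ▸ e))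
      exact h.not_rel_mixed hA hm hw hw' ((ha.symm.trans (hK' _ _ hva hvc)).trans hc)
    · rcases eq_or_ne (vb * a') v with hvc | hvc
      · have hva : va ≠ v := fun e => h.not_rel_mixed hA hm hw hw'
          (ha.symm.trans (by rw [e, ← hvc]; exact hc))
        exact not_rel_zed hA hm hw (Or.inl rfl) ((ha.symm.trans (hK' _ _ hva hvb)).trans hb)
      · exact not_rel_zed hA hm hw' (Or.inr rfl) ((hc.symm.trans (hK' _ _ hvc hvb)).trans hb)

theorem coset_conj (_hA : IsFourType A) (hm : 4 ∣ m) {i j : ZMod m}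
    (h : par (two_dvd hm) i = par (two_dvd hm) j) {v : A} (hj : Coset D j v) : Coset D i v := by
  obtain ⟨w, hw⟩ := exists_conj_sr (two_dvd hm) h
  obtain ⟨⟨g, h1, h2⟩, h3⟩ := hj
  have hrel : ∀ a : A, D.Rel (a, sr i) (a, sr j) := fun a => by
    have : ((a, sr i) : A × DihedralGroup m) = (1, w) * (a, sr j) * (1, w)⁻¹ := by simp [hw]
    rw [this]
    exact (D.rel_inner _ _).symm
  refine ⟨⟨g * (D.f (1, w))⁻¹, ?_, fun a => ?_⟩,
    fun u u' hu hu' => (hrel _).trans (h3 u u' hu hu')⟩
  · rw [← h1, show g * (D.f (1, w))⁻¹ * D.f (v, sr i) * (g * (D.f (1, w))⁻¹)⁻¹ =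
      g * ((D.f (1, w))⁻¹ * D.f (v, sr i) * D.f (1, w)) * g⁻¹ by group, ← map_inv, ← map_mul,
      ← map_mul]
    congr 3
    simp [← hw, mul_assoc]
  · rw [show g * (D.f (1, w))⁻¹ * D.f (a, 1) * (g * (D.f (1, w))⁻¹)⁻¹ =
      g * ((D.f (1, w))⁻¹ * D.f (a, 1) * D.f (1, w)) * g⁻¹ by group, ← map_inv, ← map_mul,
      ← map_mul, show ((1, w) : A × DihedralGroup m)⁻¹ * (a, 1) * (1, w) = (a, 1) by simp]
    exact h2 a

/-- A factorization with separated classes. -/
theorem exists_sep (hA : IsFourType A) (hm : 4 ∣ m) (hG : ∀ N : Subgroup G, N.index ≠ 2)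
    (D : Pr S A (DihedralGroup m)) :
    ∃ D' : Pr S A (DihedralGroup m), D'.Sep ∧ D'.ReflHyp := by
  obtain ⟨D, k, γ, hk, hfix, hact⟩ := exists_rotating hA hm hG D
  have h : Rot D k γ := ⟨hk, hfix, hact⟩
  obtain ⟨v0, h0⟩ := h.exists_coset_classes hA hm hG 0
  obtain ⟨v1, h1⟩ := h.exists_coset_classes hA hm hG 1
  let ψ : DihedralGroup m →* A :=
    chi (two_dvd hm) (v0 * v1) v0 (hA.sq _) (hA.sq _) (hA.comm _ _)
  have hψc : ∀ i, Coset D i (ψ (sr i)) := fun i => by
    show Coset D i (chi _ _ _ _ _ _ (sr i))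
    rw [chi_sr]
    rcases (by decide : ∀ k : ZMod 2, k = 0 ∨ k = 1) (par (two_dvd hm) i) with e | e
    · rw [e, ZMod.val_zero, pow_zero, mul_one]
      exact coset_conj hA hm (e.trans (map_zero _).symm) h0
    · rw [e, ZMod.val_one, pow_one, ← mul_assoc, hA.sq, one_mul]
      exact coset_conj hA hm (e.trans (map_one _).symm) h1
  have hψz : ψ (zed m) = 1 := chi_zed hm _ _ _ _ _
  refine ⟨D.twist 1 ψ (fun a b => by simp) (fun b a => hA.comm _ _) (fun b => rfl), ?_⟩
  set D' := D.twist 1 ψ (fun a b => by simp) (fun b a => hA.comm _ _) (fun b => rfl)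
  have hf : ∀ a b, D'.f (a, b) = D.f (a * ψ b, b) := fun a b => by
    show D.f (a * ψ b, 1 * b) = _
    rw [one_mul]
  have hR : ∀ i, ∃ g, g * D'.f (1, sr i) * g⁻¹ = D'.f (1, zed m) ∧
      ∀ a, g * D'.f (a, 1) * g⁻¹ ∈ (S : Subgroup G) := fun i => by
    obtain ⟨g, hg, hgS⟩ := (hψc i).1
    refine ⟨g, ?_, fun a => ?_⟩
    · rw [hf, hf, one_mul, hψz, one_mul]; exact hg
    · rw [hf, map_one, mul_one]; exact hgS a
  refine ⟨?_, fun b hb hnc => ?_⟩
  swap
  · rcases eq_or_ne b 1 with rfl | hb1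
    · obtain ⟨w, hw⟩ := hnc
      exact absurd (by simp) hw
    rcases involution_cases hb hb1 with rfl | ⟨i, rfl⟩
    · obtain ⟨w, hw⟩ := hnc
      exact absurd (zed_comm hm w) hw
    exact ⟨zed m, zed_sq hm, zed_ne_one hm, zed_comm hm, hR i⟩
  -- the classes
  have hA1 : ∀ a, D'.f (a, 1) = D.f (a, 1) := fun a => by rw [hf, map_one, mul_one]
  have hB1 : ∀ {b}, b * b = 1 → b ≠ 1 → IsConj (D'.f (1, b)) (D.f (1, zed m)) := fun {b} hb hb1 => by
    rcases involution_cases hb hb1 with rfl | ⟨i, rfl⟩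
    · rw [hf, one_mul, hψz]
    · rw [hf, one_mul]
      obtain ⟨g, hg, -⟩ := (hψc i).1
      exact D.rel_of hg
  have hC1 : ∀ {a b}, a ≠ 1 → b * b = 1 → b ≠ 1 → IsConj (D'.f (a, b)) (D.f (a, zed m)) :=
    fun {a b} ha hb hb1 => by
    rcases involution_cases hb hb1 with rfl | ⟨i, rfl⟩
    · rw [hf, hψz, mul_one]
    · rw [hf, hA.comm]
      exact (hψc i).2 a a ha ha
  refine ⟨fun a b ha ha1 hb hb1 g e => ?_, fun a a' b ha ha1 ha' ha1' hb hb1 g e => ?_,
    fun b b' a hb hb1 hb' hb1' ha ha1 g e => ?_⟩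
  · have := (isConj_iff.2 ⟨g, e⟩).trans (hB1 hb hb1)
    rw [hA1] at this
    exact not_rel_zed hA hm ha1 (Or.inl rfl) this
  · have := (isConj_iff.2 ⟨g, e⟩).trans (hC1 ha1' hb hb1)
    rw [hA1] at this
    exact h.not_rel_mixed hA hm ha1 ha1' this
  · exact not_rel_zed hA hm ha1 (Or.inr rfl)
      ((((hB1 hb hb1).symm.trans (isConj_iff.2 ⟨g, e⟩)).trans (hC1 ha1 hb' hb1')).symm)

end Pr

end Cfsg.Agent.Lib.DihedralPair
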