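import Mathlib
import Cfsg.Agent.Lib.DihedralPair.BigSep
import Cfsg.Agent.Lib.DihedralPair.FourSep
import Cfsg.Agent.Lib.ProductFusion.Direct

/-!
# Groups with a Sylow 2-subgroup which is a product of two dihedral groups

Owner: helper78.
-/

set_option autoImplicit false
set_option linter.style.haveILetI false
set_option linter.unusedSectionVars false

open Subgroup DihedralGroup Cfsg

namespace Cfsg.Agent.Lib.DihedralPair

universe u

variable {G : Type u} [Group G] [Finite G] {S : Sylow 2 G}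

theorem isFourType_dihedral : IsFourType (DihedralGroup 2) :=
  ⟨by decide, by rw [Nat.card_eq_fintype_card]; rfl⟩

/-- Data giving the two strongly closed dihedral subgroups. -/
def Closed (S : Sylow 2 G) (n m : ℕ) : Prop :=
  ∃ D : Pr S (DihedralGroup n) (DihedralGroup m),
    IsStronglyClosed D.left (S : Subgroup G) ∧ IsStronglyClosed D.swap.left (S : Subgroup G)

theorem closed_big {n m : ℕ} [NeZero n] [NeZero m] (D : Pr S (DihedralGroup n) (DihedralGroup m))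
    (hn : 4 ∣ n) (hm : 4 ∣ m) (hG : ∀ N : Subgroup G, N.index ≠ 2) : Closed S n m := by
  obtain ⟨D', h, h'⟩ := D.exists_normal hn hm hG
  have hs := Pr.sep_of_normal hn hm h h'
  exact ⟨D', Pr.isStronglyClosed_left hs (Pr.reflHyp_of_normal hm h') exists_two_inv
      (fun a ha w => conj_pm ha w),
    Pr.isStronglyClosed_left hs.swap (Pr.reflHyp_of_normal hn (D := D'.swap) h) exists_two_inv
      (fun a ha w => conj_pm ha w)⟩

theorem closed_four {m : ℕ} [NeZero m] (D : Pr S (DihedralGroup 2) (DihedralGroup m))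
    (hm : 4 ∣ m) (hG : ∀ N : Subgroup G, N.index ≠ 2) : Closed S 2 m := by
  obtain ⟨D', hs, hR⟩ := Pr.exists_sep isFourType_dihedral hm hG D
  exact ⟨D', Pr.isStronglyClosed_left hs hR exists_two_inv (fun a ha w => conj_pm ha w),
    Pr.isStronglyClosed_left hs.swap
      (fun b _ ⟨w, hw⟩ => absurd (isFourType_dihedral.comm b w) hw) exists_two_inv
      (fun a ha w => conj_pm ha w)⟩

/-- The two factors of a Sylow subgroup given by coordinates. -/
theorem factors {A B : Type} [Group A] [Group B] (D : Pr S A B) :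
    IsInternalDirectProduct D.left D.swap.left (S : Subgroup G) ∧
      Nonempty (↥D.left ≃* A) ∧ Nonempty (↥D.swap.left ≃* B) := by
  have hl : D.left ≤ (S : Subgroup G) := by rintro _ ⟨a, rfl⟩; exact D.mem _
  have hr : D.swap.left ≤ (S : Subgroup G) := by rintro _ ⟨a, rfl⟩; exact D.swap.mem _
  refine ⟨⟨hl, hr, ?_, ?_, ?_⟩, ?_, ?_⟩
  · rintro _ ⟨a, rfl⟩ _ ⟨b, rfl⟩
    show D.f (a, 1) * D.f (1, b) = D.f (1, b) * D.f (a, 1)
    rw [← map_mul, ← map_mul]
    simp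
  · rw [eq_bot_iff]
    rintro _ ⟨⟨a, rfl⟩, ⟨b, e⟩⟩
    have h1 : ((1, b) : A × B) = (a, 1) := D.inj e
    show D.f (a, 1) = 1
    have ha : (1 : A) = a := congrArg Prod.fst h1
    rw [← ha, Prod.mk_one_one, map_one]
  · refine le_antisymm (sup_le hl hr) fun x hx => ?_
    obtain ⟨⟨a, b⟩, rfl⟩ := D.exists_eq hx
    rw [show ((a, b) : A × B) = (a, 1) * (1, b) by simp, map_mul]
    exact mul_mem_sup ⟨a, rfl⟩ ⟨b, rfl⟩
  · exact ⟨(MonoidHom.ofInjective
      (f := D.f.comp (MonoidHom.inl A B)) (fun a b e => congrArg Prod.fst (D.inj e))).symm⟩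
  · exact ⟨(MonoidHom.ofInjective
      (f := D.swap.f.comp (MonoidHom.inl B A)) (fun a b e => congrArg Prod.fst (D.swap.inj e))).symm⟩

/-- The direct factorization of the group. -/
theorem direct_factorization {n m : ℕ} (h : Closed S n m) (hO : pPrimeCore 2 G = ⊥)
    (hidx : ∀ N : Subgroup G, N.Normal → Odd N.index → N = ⊤) (hn : 2 ≤ n) (hm : 2 ≤ m) :
    ∃ G₁ G₂ : Subgroup G, G₁.Normal ∧ G₂.Normal ∧ IsInternalDirectProduct G₁ G₂ ⊤ ∧
      ∃ S₁ S₂ : Subgroup G, IsInternalDirectProduct S₁ S₂ (S : Subgroup G) ∧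
        (∃ m : ℕ, 2 ≤ m ∧ Nonempty (↥S₁ ≃* DihedralGroup m)) ∧
        (∃ m : ℕ, 2 ≤ m ∧ Nonempty (↥S₂ ≃* DihedralGroup m)) ∧
        S₁ ≤ G₁ ∧ S₂ ≤ G₂ ∧ ¬ (2 ∣ (S₁.subgroupOf G₁).index) ∧ ¬ (2 ∣ (S₂.subgroupOf G₂).index) := by
  obtain ⟨D, hc₁, hc₂⟩ := h
  obtain ⟨hI, he₁, he₂⟩ := factors D
  obtain ⟨hG, ho₁, ho₂⟩ := ProductFusion.direct_product
    (⟨hc₁, hc₂, hI.2.2.1, hI.2.2.2.1⟩ : ProductFusion.Setup S D.left D.swap.left) hO hI.2.2.2.2 hidx
  refine ⟨normalClosure (D.left : Set G), normalClosure (D.swap.left : Set G), normalClosure_normal,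
    normalClosure_normal, hG, D.left, D.swap.left, hI, ⟨n, hn, he₁⟩, ⟨m, hm, he₂⟩,
    subset_normalClosure, subset_normalClosure, ?_, ?_⟩
  · exact fun h2 => Nat.not_even_iff_odd.2 ho₁ (even_iff_two_dvd.2 h2)
  · exact fun h2 => Nat.not_even_iff_odd.2 ho₂ (even_iff_two_dvd.2 h2)

theorem two_or_four_dvd {X : Subgroup G} (hX : X ≤ (S : Subgroup G)) {n : ℕ} (hn : 2 ≤ n)
    (e : ↥X ≃* DihedralGroup n) : n = 2 ∨ 4 ∣ n := by
  haveI : Fact (Nat.Prime 2) := ⟨Nat.prime_two⟩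
  obtain ⟨k, hk⟩ := IsPGroup.iff_card.1 (S.2.to_le hX)
  rw [Nat.card_congr e.toEquiv, DihedralGroup.nat_card] at hk
  rcases k with _ | _ | _ | k
  · omega
  · omega
  · left; omega
  · refine Or.inr ⟨2 ^ k, ?_⟩
    rw [pow_succ, pow_succ, pow_succ] at hk
    omega

theorem main (S : Sylow 2 G) (hO : pPrimeCore 2 G = ⊥)
    (hidx : ∀ N : Subgroup G, N.Normal → Odd N.index → N = ⊤)
    (h2 : ∀ N : Subgroup G, N.Normal → N.index ≠ 2)
    (hS : ¬ IsMulCommutative ↥(S : Subgroup G)) (D₁ D₂ : Subgroup G)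
    (hD : IsInternalDirectProduct D₁ D₂ (S : Subgroup G)) {n m : ℕ} (hn : 2 ≤ n) (hm : 2 ≤ m)
    (e₁ : ↥D₁ ≃* DihedralGroup n) (e₂ : ↥D₂ ≃* DihedralGroup m) :
    ∃ G₁ G₂ : Subgroup G, G₁.Normal ∧ G₂.Normal ∧ IsInternalDirectProduct G₁ G₂ ⊤ ∧
      ∃ S₁ S₂ : Subgroup G, IsInternalDirectProduct S₁ S₂ (S : Subgroup G) ∧
        (∃ m : ℕ, 2 ≤ m ∧ Nonempty (↥S₁ ≃* DihedralGroup m)) ∧
        (∃ m : ℕ, 2 ≤ m ∧ Nonempty (↥S₂ ≃* DihedralGroup m)) ∧
        S₁ ≤ G₁ ∧ S₂ ≤ G₂ ∧ ¬ (2 ∣ (S₁.subgroupOf G₁).index) ∧ ¬ (2 ∣ (S₂.subgroupOf G₂).index) := by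
  have hG : ∀ N : Subgroup G, N.index ≠ 2 := fun N hN => h2 N (normal_of_index_eq_two hN) hN
  obtain ⟨hle₁, hle₂, hcomm, hdisj, hsup⟩ := hD
  set f₁ : DihedralGroup n →* G := D₁.subtype.comp e₁.symm.toMonoidHom
  set f₂ : DihedralGroup m →* G := D₂.subtype.comp e₂.symm.toMonoidHom
  have hr₁ : f₁.range = D₁ := by
    rw [MonoidHom.range_comp, MonoidHom.range_eq_top.2 e₁.symm.surjective,
      ← MonoidHom.range_eq_map, range_subtype]
  have hr₂ : f₂.range = D₂ := by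
    rw [MonoidHom.range_comp, MonoidHom.range_eq_top.2 e₂.symm.surjective,
      ← MonoidHom.range_eq_map, range_subtype]
  have hc : ∀ a b, Commute (f₁ a) (f₂ b) := fun a b => hcomm _ (e₁.symm a).2 _ (e₂.symm b).2
  let D : Pr S (DihedralGroup n) (DihedralGroup m) :=
    { f := f₁.noncommCoprod f₂ hc
      inj := (MonoidHom.noncommCoprod_injective f₁ f₂ hc).2
        ⟨Subtype.val_injective.comp e₁.symm.injective, Subtype.val_injective.comp e₂.symm.injective,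
          by rw [hr₁, hr₂]; exact disjoint_iff.2 hdisj⟩
      range_eq := (MonoidHom.noncommCoprod_range f₁ f₂ hc).trans (by rw [hr₁, hr₂, hsup]) }
  rcases two_or_four_dvd hle₁ hn e₁ with rfl | hn4 <;>
    rcases two_or_four_dvd hle₂ hm e₂ with rfl | hm4
  · refine absurd ⟨⟨fun x y => ?_⟩⟩ hS
    obtain ⟨p, hp⟩ := D.exists_eq x.2
    obtain ⟨q, hq⟩ := D.exists_eq y.2
    refine Subtype.ext ?_
    show (x : G) * y = y * x
    rw [← hp, ← hq, ← map_mul, ← map_mul]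
    congr 1
    exact Prod.ext (isFourType_dihedral.comm _ _) (isFourType_dihedral.comm _ _)
  · haveI : NeZero m := ⟨by omega⟩
    exact direct_factorization (closed_four D hm4 hG) hO hidx hn hm
  · haveI : NeZero n := ⟨by omega⟩
    exact direct_factorization (closed_four D.swap hn4 hG) hO hidx hm hn
  · haveI : NeZero n := ⟨by omega⟩
    haveI : NeZero m := ⟨by omega⟩
    exact direct_factorization (closed_big D hn4 hm4 hG) hO hidx hn hm

end Cfsg.Agent.Lib.DihedralPair
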